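import Groth.Agent.H28.DefRel.Centre
import Groth.Agent.H28.TorPull
import Groth.Agent.BlowNF.FlatTotal
import Groth.Agent.H23.P1Conn
import Groth.Agent.H23.P1Vert

/-!
# Base change of the deformation to the normal cone
-/

set_option autoImplicit false
set_option linter.style.haveILetI false
set_option linter.unusedSectionVars false
set_option backward.isDefEq.respectTransparency false
set_option backward.isDefEq.respectTransparency.types false
set_option maxHeartbeats 1000000

universe u

open CategoryTheory CategoryTheory.Limits AlgebraicGeometry TopologicalSpace Opposite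

noncomputable section

namespace Groth.Agent.H28.DefRel

open Groth.Agent

set_option maxHeartbeats 2000000 in
/-- The formation of the deformation space commutes with base change. -/
theorem isBlowUp_baseChange {S S' X X' Y Y' M M' : Scheme.{u}} (f : X ⟶ S) {c : ℕ} (i : Y ⟶ X) [IsClosedImmersion i]
    (hi : RegImm.IsRegularImmersionOfCodim RegImm.Kind.regular c i) [Flat (i ≫ f)] (a : Fin (1 + 1))
    (b : M ⟶ CohB1.ProjSpaceOver 1 X) (hb : BlowUp.IsBlowUp b (i ≫ P1.sect X a).ker)
    (h : S' ⟶ S) (f' : X' ⟶ S') (g : X' ⟶ X) (hX : IsPullback g f' f h)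
    (i' : Y' ⟶ X') (gY : Y' ⟶ Y) (hY : IsPullback gY i' i g)
    (b' : M' ⟶ CohB1.ProjSpaceOver 1 X') (μ : M' ⟶ M) (hM : IsPullback μ b' b (P1.toP1 g)) :
    BlowUp.IsBlowUp b' (i' ≫ P1.sect X' a).ker := by
  have hT := H23.P1Conn.isPullback_toP1 g
  have hsect : IsPullback (P1.sect X' a) g (P1.toP1 g) (P1.sect X a) :=
    IsPullback.of_right (by
      rw [H23.P1Sect.sect_toBase, H23.P1Sect.sect_toBase]
      exact IsPullback.of_horiz_isIso ⟨by simp⟩) (H23.P1Vert.toP1_sect g a) hT.flip
  have hc := hY.flip.paste_horiz hsect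
  have hker : (i' ≫ P1.sect X' a).ker = (i ≫ P1.sect X a).ker.comap (P1.toP1 g) := TorPull.ker_eq hc
  rw [hker]
  exact BlowNF.isBlowUp_of_squares (CohB1.ProjSpaceOver.toBase 1 X ≫ f) (flat_thickenings i f hi a) b hb h
    (P1.toP1 g) (CohB1.ProjSpaceOver.toBase 1 X' ≫ f') (hT.paste_vert hX) μ b' hM

end Groth.Agent.H28.DefRel

end
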