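import Groth.Agent.BlowNF.SmoothPair
import Groth.Agent.Synt29.SectionSmooth
import Groth.Agent.H23.P1Proper
import Groth.Agent.H23.P1Sect
import Groth.Agent.S8657

/-!
# The centre of the relative deformation to the normal cone
-/

set_option autoImplicit false
set_option linter.style.haveILetI false
set_option linter.unusedSectionVars false
set_option backward.isDefEq.respectTransparency false
set_option backward.isDefEq.respectTransparency.types false
set_option maxHeartbeats 1000000

universe u

open CategoryTheory CategoryTheory.Limits AlgebraicGeometry TopologicalSpace Opposite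

noncomputable section

namespace Groth.Agent.H28.DefRel

open Groth.Agent

variable {X Y : Scheme.{u}} (i : Y ⟶ X) [IsClosedImmersion i]

theorem toKind {c : ℕ} (hi : RegImm.IsRegularImmersionOfCodim RegImm.Kind.regular c i) (k : RegImm.Kind) :
    RegImm.IsRegularImmersion k i := by
  refine ⟨hi.1, fun y => ?_⟩
  obtain ⟨U, hyU, hcl, rs, -, hrs, hker⟩ := hi.2 y
  exact ⟨U, hyU, hcl, rs, KRegLib.seq_of_isRegular k rs hrs, hker⟩

theorem koszul_centre {c : ℕ} (hi : RegImm.IsRegularImmersionOfCodim RegImm.Kind.regular c i) (a : Fin (1 + 1)) :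
    RegImm.IsRegularImmersion RegImm.Kind.koszul (i ≫ P1.sect X a) :=
  (S8657.result i (i ≫ P1.sect X a) (CohB1.ProjSpaceOver.toBase 1 X)
    (by rw [Category.assoc, H23.P1Sect.sect_toBase, Category.comp_id])).1 (toKind i hi .koszul)

/-- The ideal of a quasi-regular closed immersion is normally flat. -/
theorem nflat_ker {Z P : Scheme.{u}} (c : Z ⟶ P) [IsClosedImmersion c]
    (hc : RegImm.IsRegularImmersion RegImm.Kind.quasi c) : BlowNF.NFlat c.ker := by
  intro y
  obtain ⟨z, hz⟩ : c.ker.subschemeι y ∈ Set.range c := by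
    have h : c.ker.subschemeι y ∈ (c.ker.support : Set P) := by
      rw [← Scheme.IdealSheafData.range_subschemeι]; exact ⟨y, rfl⟩
    rwa [Scheme.Hom.support_ker, c.isClosedEmbedding.isClosed_range.closure_eq] at h
  obtain ⟨U, hzU, -, rs, hrs, hker⟩ := hc.2 z
  have hyU : c.ker.subschemeι y ∈ U.1 := hz ▸ hzU
  rw [RegConormal.ker_stalkMap_eq_map c.ker.subschemeι y U hyU
    (IsZariskiLocalAtTarget.restrict (P := @IsClosedImmersion) inferInstance U.1), c.ker.ker_subschemeι_app U]
  rw [← Scheme.Hom.ker_apply] at hker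
  rw [hker]
  let a : Fin rs.length → Γ(P, U.1) := rs.get
  have hq : CAlgX.IsQuasiRegular a := hrs
  letI := QCoh.stalkAlg (X := P) (U := U.1) (x := c.ker.subschemeι y) hyU
  haveI := QCoh.isLocalization_stalk' U.2 hyU
  have hq' := QRegBC.isQuasiRegular_localization (R := P.presheaf.stalk (c.ker.subschemeι y))
    (U.2.primeIdealOf ⟨c.ker.subschemeι y, hyU⟩).asIdeal.primeCompl a hq
  have h := BlowNF.isNormallyFlat_span_of_isQuasiRegular _ hq'
  have hspan : Ideal.span (Set.range fun l => algebraMap Γ(P, U.1) (P.presheaf.stalk (c.ker.subschemeι y)) (a l)) =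
      (Ideal.ofList rs).map (P.presheaf.germ U.1 (c.ker.subschemeι y) hyU).hom := by
    rw [Ideal.ofList, Ideal.map_span, show {r | r ∈ rs} = Set.range a from (Set.range_list_get rs).symm,
      ← Set.range_comp]
    rfl
  rw [hspan] at h
  exact h

/-- The powers of the centre are flat over the base. -/
theorem flat_thickenings {S : Scheme.{u}} (f : X ⟶ S) {c : ℕ}
    (hi : RegImm.IsRegularImmersionOfCodim RegImm.Kind.regular c i) [Flat (i ≫ f)] (a : Fin (1 + 1)) (n : ℕ) :
    Flat (((i ≫ P1.sect X a).ker ^ (n + 1)).subschemeι ≫ CohB1.ProjSpaceOver.toBase 1 X ≫ f) := by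
  let z := i ≫ P1.sect X a
  haveI : IsClosedImmersion z := inferInstanceAs (IsClosedImmersion (i ≫ P1.sect X a))
  have hι : z.ker.subschemeι = inv z.toImage ≫ z :=
    (IsIso.eq_inv_comp z.toImage).2 z.toImage_imageι
  have he : z ≫ CohB1.ProjSpaceOver.toBase 1 X ≫ f = i ≫ f := by
    show (i ≫ P1.sect X a) ≫ _ = _
    rw [Category.assoc, reassoc_of% H23.P1Sect.sect_toBase]
  haveI : Flat (z.ker.subschemeι ≫ CohB1.ProjSpaceOver.toBase 1 X ≫ f) := by
    rw [hι, Category.assoc, he]
    infer_instance
  exact BlowNF.flat_thickenings (g := CohB1.ProjSpaceOver.toBase 1 X ≫ f) (I := z.ker)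
    (nflat_ker z (Synt29.SectionSmooth.quasi_of_koszul (koszul_centre i hi a))) n

end Groth.Agent.H28.DefRel

end
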