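import Groth.Agent.H28.DefRel.ChartSeq
import Groth.Agent.H28.LiftReg
import Mathlib.Data.Fin.Tuple.Embedding

/-!
# Charts of blowings up under the quotient by part of the coordinates
-/

set_option autoImplicit false
set_option linter.style.haveILetI false
set_option linter.unusedSectionVars false
set_option backward.isDefEq.respectTransparency false
set_option backward.isDefEq.respectTransparency.types false
set_option maxHeartbeats 1000000

universe u

open MvPolynomial RingTheory.Sequence Groth.Agent.WiebeLib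

noncomputable section

namespace Groth.Agent.H28.DefRel

open Groth.Agent

/-- Exactness does not depend on the order. -/
theorem isExact_reindex {A : Type u} [CommRing A] {n n' : ℕ} {a : Fin n → A} (ha : IsExact a) (g : Fin n' → Fin n)
    (hg : Function.Injective g) (hn : n' = n) : IsExact fun i => a (g i) := by
  subst hn
  exact KRegLib.isExact_comp_equiv ha (Equiv.ofBijective g (Finite.injective_iff_bijective.1 hg))

/-- The images of part of an exact sequence modulo an exact part. -/
theorem isExact_images {A S : Type u} [CommRing A] [CommRing S] {n c m : ℕ} {a : Fin n → A} (ha : IsExact a)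
    (ix : Fin c → Fin n) (iy : Fin m → Fin n) (hinj : Function.Injective (Fin.append iy ix)) (hn : m + c = n)
    (hx : IsExact fun l => a (ix l)) {q : A →+* S} (hq : Function.Surjective q)
    (hker : RingHom.ker q = Ideal.span (Set.range fun l => a (ix l))) : IsExact fun l => q (a (iy l)) := by
  refine KRegLib.isExact_of_appendSeq (f := fun l => a (ix l)) hx hq hker (fun l => a (iy l)) ?_
  have heq : ∀ i, KRegLib.appendSeq (fun l => a (ix l)) m (fun l => a (iy l)) i =
      a (Fin.append iy ix (i.cast (Nat.add_comm c m))) := fun i => by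
    rw [LiftReg.appendSeq_eq]
    generalize i.cast (Nat.add_comm c m) = j
    induction j using Fin.addCases <;> simp
  rw [funext heq]
  exact isExact_reindex ha _ (hinj.comp (Fin.cast_injective _)) ((Nat.add_comm c m).trans hn)

/-- The map of charts induced by the quotient by part of the coordinates. -/
theorem chart_map {A S : Type u} [CommRing A] [CommRing S] {N c m : ℕ} (τ : A) (a : Fin N → A)
    (ix : Fin c → Fin N) (iy : Fin m → Fin N) (hinj : Function.Injective (Fin.append iy ix)) (hN : m + c = N)
    (hex : IsExact (Fin.cons τ a : Fin (N + 1) → A)) (hx : IsExact fun l => a (ix l)) (q : A →+* S)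
    (hq : Function.Surjective q) (hker : RingHom.ker q = Ideal.span (Set.range fun l => a (ix l))) :
    ∃ ρ : RegBlow6.chartAlg (Fin.cons τ a : Fin (N + 1) → A) 0 →+*
        RegBlow6.chartAlg (Fin.cons (q τ) (fun l => q (a (iy l))) : Fin (m + 1) → S) 0,
      Function.Surjective ρ ∧ (∀ x, ρ (algebraMap A _ x) = algebraMap S _ (q x)) ∧
      (∀ l, ρ (uu τ a (iy l)) = uu (q τ) (fun l => q (a (iy l))) l) ∧
      RingHom.ker ρ = Ideal.span (Set.range fun l => uu τ a (ix l)) := by
  classical
  let b : Fin m → S := fun l => q (a (iy l))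
  have hex' : IsExact (Fin.cons (q τ) b : Fin (m + 1) → S) := by
    have h := isExact_images (a := (Fin.cons τ a : Fin (N + 1) → A)) (S := S) hex (fun l => (ix l).succ)
      (Fin.cons 0 fun l => (iy l).succ) (q := q) ?_ (by omega) (by simpa using hx) hq (by simpa using hker)
    · refine (congrArg IsExact (funext fun i => ?_)).mp h
      induction i using Fin.cases <;> simp [b]
    · rw [Fin.append_injective_iff] at hinj ⊢
      refine ⟨Fin.cons_injective_iff.2 ⟨fun ⟨l, hl⟩ => Fin.succ_ne_zero _ hl, (Fin.succ_injective _).comp hinj.1⟩,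
        (Fin.succ_injective _).comp hinj.2.1, fun i j => ?_⟩
      induction i using Fin.cases with
      | zero => simpa using (Fin.succ_ne_zero _).symm
      | succ i => simpa using hinj.2.2 i j
  let σ : Fin (m + c) ≃ Fin N := Equiv.ofBijective (Fin.append iy ix) (by
    subst hN
    exact Finite.injective_iff_bijective.1 hinj)
  let W : Fin N → MvPolynomial (Fin m) A := fun l => Fin.append X (fun _ => 0) (σ.symm l)
  have hWy : ∀ l, W (iy l) = X l := fun l => by
    have : σ.symm (iy l) = Fin.castAdd c l := σ.symm_apply_eq.2 (by simp [σ])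
    simp [W, this]
  have hWx : ∀ l, W (ix l) = 0 := fun l => by
    have : σ.symm (ix l) = Fin.natAdd m l := σ.symm_apply_eq.2 (by simp [σ])
    simp [W, this]
  let η : MvPolynomial (Fin N) A →+* MvPolynomial (Fin m) A := eval₂Hom C W
  let ev : MvPolynomial (Fin N) A →+* MvPolynomial (Fin m) S := (MvPolynomial.map q).comp η
  let p := (PBlow.pres (Fin.cons τ a : Fin (N + 1) → A) 0).toRingHom
  let p' := (PBlow.pres (Fin.cons (q τ) b : Fin (m + 1) → S) 0).toRingHom
  have hp : Function.Surjective p := PBlow.pres_surjective _ 0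
  have hp' : Function.Surjective p' := PBlow.pres_surjective _ 0
  have hevs : ∀ l, ev (PBlow.eqs (Fin.cons τ a : Fin (N + 1) → A) 0 (iy l)) =
      PBlow.eqs (Fin.cons (q τ) b : Fin (m + 1) → S) 0 l := fun l => by
    rw [eqs_apply, eqs_apply]
    simp [ev, η, hWy, b]
  have hqx : ∀ l, q (a (ix l)) = 0 := fun l => RingHom.mem_ker.1 (hker.ge (Ideal.subset_span ⟨l, rfl⟩))
  have hkle : RingHom.ker p ≤ RingHom.ker (p'.comp ev) := by
    rw [PBlow.ker_pres _ 0 hex, Ideal.span_le]
    rintro _ ⟨l, rfl⟩
    rw [SetLike.mem_coe, RingHom.mem_ker, RingHom.comp_apply]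
    obtain ⟨i, rfl⟩ := σ.surjective l
    induction i using Fin.addCases with
    | left l =>
      rw [show σ (Fin.castAdd c l) = iy l by simp [σ], hevs, ← RingHom.mem_ker, PBlow.ker_pres _ 0 hex']
      exact Ideal.subset_span ⟨l, rfl⟩
    | right l =>
      rw [show σ (Fin.natAdd m l) = ix l by simp [σ], eqs_apply]
      simp [ev, η, hWx, hqx]
  let ρ := RingHom.liftOfSurjective p hp ⟨p'.comp ev, hkle⟩
  have hρ : ∀ P, ρ (p P) = p' (ev P) := fun P => RingHom.liftOfRightInverse_comp_apply p _ _ ⟨p'.comp ev, hkle⟩ P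
  have hevsurj : Function.Surjective ev := by
    intro Q
    obtain ⟨Q, rfl⟩ := MvPolynomial.map_surjective q hq Q
    refine ⟨rename iy Q, congrArg (MvPolynomial.map q) ?_⟩
    simp only [η, eval₂Hom_rename]
    rw [show W ∘ iy = X from funext hWy]
    exact eval₂_eta Q
  let I : Ideal (RegBlow6.chartAlg (Fin.cons τ a : Fin (N + 1) → A) 0) :=
    Ideal.span (Set.range fun l => uu τ a (ix l))
  have hkev : ∀ P, ev P = 0 → p P ∈ I := by
    intro P hP
    have h1 : ∀ Q : MvPolynomial (Fin N) A, Q - rename iy (η Q) ∈ Ideal.span (Set.range fun l => X (ix l)) :=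
      fun Q => by
      induction Q using MvPolynomial.induction_on with
      | C x => simp [η]
      | add P Q hP hQ =>
        rw [map_add, map_add, add_sub_add_comm]
        exact Ideal.add_mem _ hP hQ
      | mul_X P i hP =>
        obtain ⟨i, rfl⟩ := σ.surjective i
        induction i using Fin.addCases with
        | left l =>
          rw [show σ (Fin.castAdd c l) = iy l by simp [σ], map_mul, map_mul]
          simp only [η, eval₂Hom_X', hWy, rename_X]
          rw [← sub_mul]
          exact Ideal.mul_mem_right _ _ hP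
        | right l =>
          rw [show σ (Fin.natAdd m l) = ix l by simp [σ], map_mul, map_mul]
          simp only [η, eval₂Hom_X', hWx, map_zero, mul_zero, sub_zero]
          exact Ideal.mul_mem_left _ _ (Ideal.subset_span ⟨l, rfl⟩)
    have h4 : η P ∈ RingHom.ker (MvPolynomial.map (σ := Fin m) q) := hP
    rw [MvPolynomial.ker_map, hker, Ideal.map_span, ← Set.range_comp] at h4
    have h5 : p (rename iy (η P)) ∈ I := by
      refine (Ideal.span_le (I := Ideal.comap (p.comp (rename iy).toRingHom) I)).2 ?_ h4
      rintro _ ⟨l, rfl⟩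
      show p (rename iy (C (a (ix l)))) ∈ I
      rw [rename_C, show p (C (a (ix l))) = algebraMap A _ (a (ix l)) from (PBlow.pres _ 0).commutes _, ← uu_mul]
      exact Ideal.mul_mem_right _ _ (Ideal.subset_span ⟨l, rfl⟩)
    have h6 : p (P - rename iy (η P)) ∈ I := by
      refine (Ideal.span_le (I := Ideal.comap p I)).2 ?_ (h1 P)
      rintro _ ⟨l, rfl⟩
      exact Ideal.subset_span ⟨l, rfl⟩
    rw [map_sub] at h6
    have := Ideal.add_mem _ h6 h5
    rwa [sub_add_cancel] at this
  refine ⟨ρ, fun y => ?_, fun x => ?_, fun l => ?_, le_antisymm (fun x hx => ?_) (Ideal.span_le.2 ?_)⟩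
  · obtain ⟨Q, rfl⟩ := hp' y
    obtain ⟨P, rfl⟩ := hevsurj Q
    exact ⟨p P, hρ P⟩
  · rw [show algebraMap A _ x = p (C x) from ((PBlow.pres _ 0).commutes x).symm, hρ]
    simp only [ev, η, RingHom.comp_apply, eval₂Hom_C, map_C]
    exact (PBlow.pres _ 0).commutes (q x)
  · show ρ (p (X (iy l))) = p' (X l)
    rw [hρ]
    simp [ev, η, hWy]
  · obtain ⟨P, rfl⟩ := hp x
    rw [RingHom.mem_ker, hρ, ← RingHom.mem_ker, PBlow.ker_pres _ 0 hex'] at hx
    have hsp : Ideal.span (Set.range (PBlow.eqs (Fin.cons (q τ) b : Fin (m + 1) → S) 0)) ≤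
        (Ideal.span (Set.range (PBlow.eqs (Fin.cons τ a : Fin (N + 1) → A) 0))).map ev := by
      rw [Ideal.span_le]
      rintro _ ⟨l, rfl⟩
      rw [← hevs]
      exact Ideal.mem_map_of_mem _ (Ideal.subset_span ⟨iy l, rfl⟩)
    obtain ⟨Q, hQ, hQP⟩ := (Ideal.mem_map_iff_of_surjective ev hevsurj).1 (hsp hx)
    rw [← PBlow.ker_pres _ 0 hex] at hQ
    have := hkev (P - Q) (by rw [map_sub, hQP, sub_self])
    rwa [map_sub, show p Q = 0 from hQ, sub_zero] at this
  · rintro _ ⟨l, rfl⟩
    show ρ (p (X (ix l))) = 0
    rw [hρ]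
    simp [ev, η, hWx]

/-- Coordinates belonging to a weakly regular part of an exact sequence are weakly regular. -/
theorem isWeaklyRegular_coords_part : ∀ {r N : ℕ} {A : Type u} [CommRing A] (τ : A) (a : Fin N → A) (hr : r ≤ N),
    IsExact (Fin.cons τ a : Fin (N + 1) → A) → IsWeaklyRegular A (List.ofFn fun l => a (Fin.castLE hr l)) →
      IsWeaklyRegular (RegBlow6.chartAlg (Fin.cons τ a : Fin (N + 1) → A) 0)
        (List.ofFn fun l => uu τ a (Fin.castLE hr l))
  | 0, N, A, _, τ, a, hr, _, _ => by
    rw [List.ofFn_zero]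
    exact IsWeaklyRegular.nil _ _
  | r + 1, 0, A, _, τ, a, hr, _, _ => absurd hr (by omega)
  | r + 1, N + 1, A, _, τ, a, hr, hex, h => by
    classical
    have hr' : r ≤ N := Nat.le_of_succ_le_succ hr
    have h0 : Fin.castLE hr (0 : Fin (r + 1)) = 0 := Fin.ext rfl
    have hs : ∀ l : Fin r, Fin.castLE hr l.succ = (Fin.castLE hr' l).succ := fun l => Fin.ext rfl
    rw [List.ofFn_succ, h0, weaklyRegular_cons_iff (a 0) (q := Ideal.Quotient.mk (Ideal.span {a 0}))
      Ideal.Quotient.mk_surjective Ideal.mk_ker, List.map_ofFn] at h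
    obtain ⟨ha0, h'⟩ := h
    let qq := Ideal.Quotient.mk (Ideal.span {a 0})
    have h'' : IsWeaklyRegular (A ⧸ Ideal.span {a 0}) (List.ofFn fun l => qq (a (Fin.castLE hr' l).succ)) := by
      refine (congrArg (IsWeaklyRegular _) (congrArg List.ofFn (funext fun l => ?_))).mp h'
      simp [qq, hs]
    have hx : IsExact fun _ : Fin 1 => a 0 := KRegLib.isExact_single ha0
    have hinj : Function.Injective (Fin.append (Fin.succ : Fin N → Fin (N + 1)) fun _ : Fin 1 => 0) :=
      Fin.append_injective_iff.2 ⟨Fin.succ_injective _, Function.injective_of_subsingleton _,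
        fun i j => Fin.succ_ne_zero i⟩
    have hker : RingHom.ker qq = Ideal.span (Set.range fun _ : Fin 1 => a 0) := by
      rw [Set.range_const]; exact Ideal.mk_ker
    obtain ⟨ρ, hρsurj, -, hρu, hkρ⟩ :=
      chart_map τ a (fun _ : Fin 1 => 0) Fin.succ hinj rfl hex hx qq Ideal.Quotient.mk_surjective hker
    have hex' : IsExact (Fin.cons (qq τ) (fun l => qq (a l.succ)) : Fin (N + 1) → A ⧸ Ideal.span {a 0}) := by
      have := isExact_images (a := (Fin.cons τ a : Fin (N + 1 + 1) → A)) hex (fun _ : Fin 1 => Fin.succ 0)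
        (Fin.cons 0 fun l => l.succ.succ) (q := qq) ?_ rfl (by simpa using hx) Ideal.Quotient.mk_surjective
        (by simpa using hker)
      · refine (congrArg IsExact (funext fun i => ?_)).mp this
        induction i using Fin.cases <;> simp
      · refine Fin.append_injective_iff.2 ⟨Fin.cons_injective_iff.2 ⟨fun ⟨l, hl⟩ => Fin.succ_ne_zero _ hl,
          (Fin.succ_injective _).comp (Fin.succ_injective _)⟩, Function.injective_of_subsingleton _, fun i j => ?_⟩
        induction i using Fin.cases with
        | zero => simpa using (Fin.succ_ne_zero (0 : Fin (N + 1))).symm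
        | succ i => simpa using fun h => Fin.succ_ne_zero _ ((Fin.succ_injective _) h)
    have ih := isWeaklyRegular_coords_part (qq τ) (fun l => qq (a l.succ)) hr' hex' h''
    let u₀ := uu τ a 0
    have hu₀ : u₀ * algebraMap A _ τ = algebraMap A _ (a 0) := uu_mul τ a 0
    rw [List.ofFn_succ, h0, weaklyRegular_cons_iff u₀ hρsurj (hkρ.trans (by rw [Set.range_const])), List.map_ofFn]
    refine ⟨?_, ?_⟩
    · show IsSMulRegular (RegBlow6.chartAlg (Fin.cons τ a : Fin (N + 1 + 1) → A) 0) u₀
      intro x y hxy
      have hxy' : u₀ * x = u₀ * y := hxy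
      refine sub_eq_zero.1 ?_
      generalize hd : x - y = x'
      have hx' : u₀ * x' = 0 := by rw [← hd, mul_sub, hxy', sub_self]
      have h5 : algebraMap A _ (a 0) * x' = 0 := by rw [← hu₀, mul_right_comm, hx', zero_mul]
      refine Subtype.ext ?_
      have h6 := congrArg Subtype.val h5
      have hnz : a 0 ∈ nonZeroDivisors A := mem_nonZeroDivisors_iff_right.2 fun y hy =>
        ha0.right_eq_zero_of_smul (by rw [smul_eq_mul, mul_comm]; exact hy)
      have hmap : algebraMap A (Localization.Away ((Fin.cons τ a : Fin (N + 1 + 1) → A) 0)) (a 0) ∈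
          nonZeroDivisors (Localization.Away ((Fin.cons τ a : Fin (N + 1 + 1) → A) 0)) :=
        IsLocalization.map_nonZeroDivisors_le (Submonoid.powers ((Fin.cons τ a : Fin (N + 1 + 1) → A) 0)) _
          ⟨_, hnz, rfl⟩
      exact mem_nonZeroDivisors_iff_right.1 hmap _ (by rw [mul_comm]; exact h6)
    · refine (congrArg (IsWeaklyRegular _) (congrArg List.ofFn (funext fun l => ?_))).mpr ih
      show ρ (uu τ a (Fin.castLE hr l.succ)) = _
      rw [hs, hρu]

end Groth.Agent.H28.DefRel

end
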