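import Groth.Agent.PBlow.Alg
import Mathlib.RingTheory.Regular.RegularSequence
import Mathlib.RingTheory.MvPolynomial.Basic

/-!
# Coordinates of a chart of a blowing up form a regular sequence
-/

set_option autoImplicit false
set_option linter.style.haveILetI false
set_option linter.unusedSectionVars false
set_option backward.isDefEq.respectTransparency false
set_option backward.isDefEq.respectTransparency.types false
set_option maxHeartbeats 1000000

universe u

open MvPolynomial RingTheory.Sequence Groth.Agent.WiebeLib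

noncomputable section

namespace Groth.Agent.H28.DefRel

open Groth.Agent

theorem weaklyRegular_cons_iff {R S : Type u} [CommRing R] [CommRing S] (r : R) {q : R →+* S}
    (hq : Function.Surjective q) (hker : RingHom.ker q = Ideal.span {r}) (rs : List R) :
    IsWeaklyRegular R (r :: rs) ↔ IsSMulRegular R r ∧ IsWeaklyRegular S (rs.map q) := by
  rw [isWeaklyRegular_cons_iff]
  refine and_congr_right' ?_
  let e : QuotSMulTop r R ≃+ S := ((Submodule.quotEquivOfEq _ _ (by
    rw [← Submodule.ideal_span_singleton_smul, smul_eq_mul, Ideal.mul_top, hker])).toAddEquiv).trans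
    (RingHom.quotientKerEquivOfSurjective hq).toAddEquiv
  refine AddEquiv.isWeaklyRegular_congr (e := e) (List.forall₂_map_right_iff.mpr (List.forall₂_same.mpr fun r' _ x => ?_))
  obtain ⟨y, rfl⟩ := Submodule.Quotient.mk_surjective _ x
  exact map_mul q r' y

/-- A regular sequence followed by a regular element is exact in the other order. -/
theorem isExact_cons_of_append {n : ℕ} {A : Type u} [CommRing A] {τ : A} {a : Fin n → A}
    (h : IsWeaklyRegular A (List.ofFn a ++ [τ])) : IsExact (Fin.cons τ a : Fin (n + 1) → A) := by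
  have hl : List.ofFn (Fin.snoc a τ : Fin (n + 1) → A) = List.ofFn a ++ [τ] := by
    rw [List.ofFn_succ', List.concat_eq_append]
    simp
  have h1 : IsExact (Fin.snoc a τ : Fin (n + 1) → A) := KRegLib.isExact_of_isWeaklyRegular _ (hl ▸ h)
  let g : Fin (n + 1) → Fin (n + 1) := Fin.cons (Fin.last n) Fin.castSucc
  have hg : Function.Bijective g := Finite.injective_iff_bijective.1 (Fin.cons_injective_iff.2
    ⟨fun ⟨i, hi⟩ => (Fin.castSucc_lt_last i).ne hi, Fin.castSucc_injective n⟩)
  have h2 := KRegLib.isExact_comp_equiv h1 (Equiv.ofBijective g hg)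
  refine (congrArg IsExact (funext fun i => ?_)).mp h2
  induction i using Fin.cases with
  | zero => simp [g]
  | succ i => simp [g]

/-- The coordinates of the chart of the regular element. -/
abbrev uu {n : ℕ} {A : Type u} [CommRing A] (τ : A) (a : Fin n → A) (l : Fin n) :
    RegBlow6.chartAlg (Fin.cons τ a : Fin (n + 1) → A) 0 :=
  PBlow.pres (Fin.cons τ a : Fin (n + 1) → A) 0 (X l)

theorem uu_mul {n : ℕ} {A : Type u} [CommRing A] (τ : A) (a : Fin n → A) (l : Fin n) :
    uu τ a l * algebraMap A _ τ = algebraMap A (RegBlow6.chartAlg (Fin.cons τ a : Fin (n + 1) → A) 0) (a l) := by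
  rw [uu, PBlow.pres, aeval_X]
  have h := RegBlow6.coord_mul (Fin.cons τ a : Fin (n + 1) → A) 0 ⟨(0 : Fin (n + 1)).succAbove l, Fin.succAbove_ne 0 l⟩
  simp only [Fin.succAbove_zero, Fin.cons_succ, Fin.cons_zero] at h ⊢
  exact h

theorem eqs_apply {n : ℕ} {A : Type u} [CommRing A] (τ : A) (a : Fin n → A) (l : Fin n) :
    PBlow.eqs (Fin.cons τ a : Fin (n + 1) → A) 0 l = C τ * X l - C (a l) := by
  simp [PBlow.eqs]

theorem isWeaklyRegular_coords : ∀ {n : ℕ} {A : Type u} [CommRing A] (τ : A) (a : Fin n → A),
    IsWeaklyRegular A (List.ofFn a ++ [τ]) →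
      IsWeaklyRegular (RegBlow6.chartAlg (Fin.cons τ a : Fin (n + 1) → A) 0) (List.ofFn fun l => uu τ a l)
  | 0, A, _, τ, a, _ => by
    rw [List.ofFn_zero]
    exact IsWeaklyRegular.nil _ _
  | n + 1, A, _, τ, a, h => by
    classical
    have hex := isExact_cons_of_append h
    rw [List.ofFn_succ, List.cons_append, weaklyRegular_cons_iff (a 0) (q := Ideal.Quotient.mk (Ideal.span {a 0}))
      Ideal.Quotient.mk_surjective Ideal.mk_ker, List.map_append, List.map_ofFn] at h
    obtain ⟨ha0, h'⟩ := h
    let qq := Ideal.Quotient.mk (Ideal.span {a 0})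
    let τ' := qq τ
    let a' : Fin n → A ⧸ Ideal.span {a 0} := fun i => qq (a i.succ)
    have h'' : IsWeaklyRegular (A ⧸ Ideal.span {a 0}) (List.ofFn a' ++ [τ']) := h'
    have hex' := isExact_cons_of_append h''
    have ih := isWeaklyRegular_coords τ' a' h''
    let p := (PBlow.pres (Fin.cons τ a : Fin (n + 1 + 1) → A) 0).toRingHom
    let p' := (PBlow.pres (Fin.cons τ' a' : Fin (n + 1) → A ⧸ Ideal.span {a 0}) 0).toRingHom
    have hp : Function.Surjective p := PBlow.pres_surjective _ 0
    have hp' : Function.Surjective p' := PBlow.pres_surjective _ 0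
    let ev : MvPolynomial (Fin (n + 1)) A →+* MvPolynomial (Fin n) (A ⧸ Ideal.span {a 0}) :=
      eval₂Hom (C.comp qq) (Fin.cons 0 X)
    have hev0 : ev (PBlow.eqs (Fin.cons τ a : Fin (n + 1 + 1) → A) 0 0) = 0 := by
      rw [eqs_apply]
      simp [ev, qq, Ideal.Quotient.eq_zero_iff_mem, Ideal.mem_span_singleton_self]
    have hevs : ∀ l : Fin n, ev (PBlow.eqs (Fin.cons τ a : Fin (n + 1 + 1) → A) 0 l.succ) =
        PBlow.eqs (Fin.cons τ' a' : Fin (n + 1) → A ⧸ Ideal.span {a 0}) 0 l := fun l => by
      rw [eqs_apply, eqs_apply]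
      simp [ev, τ', a']
    have hkle : RingHom.ker p ≤ RingHom.ker (p'.comp ev) := by
      rw [PBlow.ker_pres _ 0 hex, Ideal.span_le]
      rintro _ ⟨l, rfl⟩
      rw [SetLike.mem_coe, RingHom.mem_ker, RingHom.comp_apply]
      induction l using Fin.cases with
      | zero => rw [hev0, map_zero]
      | succ l =>
        rw [hevs, ← RingHom.mem_ker, PBlow.ker_pres _ 0 hex']
        exact Ideal.subset_span ⟨l, rfl⟩
    let ρ := RingHom.liftOfSurjective p hp ⟨p'.comp ev, hkle⟩
    have hρ : ∀ P, ρ (p P) = p' (ev P) := fun P => RingHom.liftOfRightInverse_comp_apply p _ _ ⟨p'.comp ev, hkle⟩ P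
    have hevsurj : Function.Surjective ev := by
      intro Q
      induction Q using MvPolynomial.induction_on with
      | C x =>
        obtain ⟨x, rfl⟩ := Ideal.Quotient.mk_surjective x
        exact ⟨C x, by simp [ev, qq]⟩
      | add P Q hP hQ =>
        obtain ⟨P', rfl⟩ := hP
        obtain ⟨Q', rfl⟩ := hQ
        exact ⟨P' + Q', map_add _ _ _⟩
      | mul_X P i hP =>
        obtain ⟨P', rfl⟩ := hP
        exact ⟨P' * X i.succ, by rw [map_mul]; simp [ev]⟩
    have hρsurj : Function.Surjective ρ := fun y => by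
      obtain ⟨Q, rfl⟩ := hp' y
      obtain ⟨P, rfl⟩ := hevsurj Q
      exact ⟨p P, hρ P⟩
    let u₀ := uu τ a 0
    have hu₀ : u₀ * algebraMap A _ τ = algebraMap A _ (a 0) := uu_mul τ a 0
    have hkev : ∀ P, ev P = 0 → p P ∈ Ideal.span {u₀} := by
      intro P hP
      let σ : MvPolynomial (Fin (n + 1)) A →+* MvPolynomial (Fin n) A := eval₂Hom C (Fin.cons 0 X)
      have h1 : ∀ Q : MvPolynomial (Fin (n + 1)) A,
          Q - rename Fin.succ (σ Q) ∈ Ideal.span {(X 0 : MvPolynomial (Fin (n + 1)) A)} := fun Q => by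
        induction Q using MvPolynomial.induction_on with
        | C x => simp [σ]
        | add P Q hP hQ =>
          rw [map_add, map_add, add_sub_add_comm]
          exact Ideal.add_mem _ hP hQ
        | mul_X P i hP =>
          induction i using Fin.cases with
          | zero =>
            rw [map_mul, map_mul]
            simp only [σ, eval₂Hom_X', Fin.cons_zero, map_zero, mul_zero, sub_zero]
            exact Ideal.mul_mem_left _ _ (Ideal.mem_span_singleton_self _)
          | succ i =>
            rw [map_mul, map_mul]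
            simp only [σ, eval₂Hom_X', Fin.cons_succ, rename_X]
            rw [← sub_mul]
            exact Ideal.mul_mem_right _ _ hP
      have h2 : MvPolynomial.map qq (σ P) = 0 := by
        rw [← hP]
        refine RingHom.congr_fun (MvPolynomial.ringHom_ext (f := (MvPolynomial.map qq).comp σ) (g := ev)
          (fun x => by simp [σ, ev]) fun i => ?_) P
        induction i using Fin.cases <;> simp [σ, ev]
      have h3 : σ P ∈ Ideal.span {(C (a 0) : MvPolynomial (Fin n) A)} := by
        have h4 : σ P ∈ RingHom.ker (MvPolynomial.map (σ := Fin n) qq) := h2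
        rw [MvPolynomial.ker_map, Ideal.mk_ker, Ideal.map_span, Set.image_singleton] at h4
        exact h4
      obtain ⟨w, hw⟩ := Ideal.mem_span_singleton'.1 h3
      obtain ⟨v, hv⟩ := Ideal.mem_span_singleton'.1 (h1 P)
      have hP' : P = v * X 0 + rename Fin.succ w * C (a 0) := by
        rw [hv, ← rename_C Fin.succ, ← map_mul, hw, sub_add_cancel]
      rw [hP', map_add, map_mul, map_mul]
      refine Ideal.add_mem _ (Ideal.mul_mem_left _ _ (Ideal.mem_span_singleton_self u₀)) ?_
      rw [show p (C (a 0)) = algebraMap A _ (a 0) from (PBlow.pres _ 0).commutes (a 0), ← hu₀]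
      exact Ideal.mul_mem_left _ _ (Ideal.mul_mem_right _ _ (Ideal.mem_span_singleton_self _))
    have hkρ : RingHom.ker ρ = Ideal.span {u₀} := by
      refine le_antisymm (fun x hx => ?_) ((Ideal.span_singleton_le_iff_mem _).2 ?_)
      · obtain ⟨P, rfl⟩ := hp x
        rw [RingHom.mem_ker, hρ, ← RingHom.mem_ker, PBlow.ker_pres _ 0 hex'] at hx
        have hsp : Ideal.span (Set.range (PBlow.eqs (Fin.cons τ' a' : Fin (n + 1) → A ⧸ Ideal.span {a 0}) 0)) ≤
            (Ideal.span (Set.range (PBlow.eqs (Fin.cons τ a : Fin (n + 1 + 1) → A) 0))).map ev := by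
          rw [Ideal.span_le]
          rintro _ ⟨l, rfl⟩
          rw [← hevs]
          exact Ideal.mem_map_of_mem _ (Ideal.subset_span ⟨l.succ, rfl⟩)
        obtain ⟨Q, hQ, hQP⟩ := (Ideal.mem_map_iff_of_surjective ev hevsurj).1 (hsp hx)
        rw [← PBlow.ker_pres _ 0 hex] at hQ
        have := hkev (P - Q) (by rw [map_sub, hQP, sub_self])
        rwa [map_sub, show p Q = 0 from hQ, sub_zero] at this
      · show ρ (p (X 0)) = 0
        rw [hρ]
        simp [ev]
    rw [List.ofFn_succ, weaklyRegular_cons_iff u₀ hρsurj hkρ, List.map_ofFn]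
    refine ⟨?_, ?_⟩
    · show IsSMulRegular (RegBlow6.chartAlg (Fin.cons τ a : Fin (n + 1 + 1) → A) 0) u₀
      intro x y hxy
      have hxy' : u₀ * x = u₀ * y := hxy
      refine sub_eq_zero.1 ?_
      generalize hd : x - y = x'
      have hx' : u₀ * x' = 0 := by rw [← hd, mul_sub, hxy', sub_self]
      clear hd hxy hxy' x y
      rename' x' => x
      have h5 : algebraMap A _ (a 0) * x = 0 := by rw [← hu₀, mul_right_comm, hx', zero_mul]
      refine Subtype.ext ?_
      have h6 := congrArg Subtype.val h5
      have hnz : a 0 ∈ nonZeroDivisors A := mem_nonZeroDivisors_iff_right.2 fun y hy =>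
        ha0.right_eq_zero_of_smul (by rw [smul_eq_mul, mul_comm]; exact hy)
      have hmap : algebraMap A (Localization.Away ((Fin.cons τ a : Fin (n + 1 + 1) → A) 0)) (a 0) ∈
          nonZeroDivisors (Localization.Away ((Fin.cons τ a : Fin (n + 1 + 1) → A) 0)) :=
        IsLocalization.map_nonZeroDivisors_le (Submonoid.powers ((Fin.cons τ a : Fin (n + 1 + 1) → A) 0)) _
          ⟨_, hnz, rfl⟩
      exact mem_nonZeroDivisors_iff_right.1 hmap _ (by rw [mul_comm]; exact h6)
    · refine (congrArg (IsWeaklyRegular _) (congrArg List.ofFn (funext fun l => ?_))).mpr ih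
      show ρ (p (X l.succ)) = p' (X l)
      rw [hρ]
      simp [ev]

end Groth.Agent.H28.DefRel

end
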