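import Groth.Agent.H28.DefRel.BaseChange
import Groth.Agent.H23.P1Charts
import Groth.Agent.H23.MultiP1.Basic
import Groth.Agent.BlowUpX.Basic
import Groth.Agent.FibDim.RelDim
import Groth.Agent.Synt29.Standard
import Mathlib.RingTheory.Flat.TorsionFree

/-!
# The deformation space over a field
-/

set_option autoImplicit false
set_option linter.style.haveILetI false
set_option linter.unusedSectionVars false
set_option backward.isDefEq.respectTransparency false
set_option backward.isDefEq.respectTransparency.types false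
set_option maxHeartbeats 1000000

universe u

open CategoryTheory CategoryTheory.Limits AlgebraicGeometry TopologicalSpace Opposite

noncomputable section

namespace Groth.Agent.H28.DefRel

open Groth.Agent

/-- An affine blow-up algebra of an algebra flat over a principal ideal domain is flat. -/
theorem flat_affineAlgebra_pid (R : Type u) {A : Type u} [CommRing R] [IsDomain R] [IsPrincipalIdealRing R]
    [CommRing A] [Algebra R A] [Module.Flat R A] (I : Ideal A) (a : A) :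
    Module.Flat R (BlowUp.affineAlgebra A I a) := by
  haveI : Module.Flat A (Localization.Away a) := IsLocalization.flat _ (Submonoid.powers a)
  haveI : Module.Flat R (Localization.Away a) := Module.Flat.trans R A _
  rw [Module.Flat.flat_iff_torsion_eq_bot_of_isBezout, eq_bot_iff]
  intro m hm
  obtain ⟨⟨r, hr⟩, h⟩ := hm
  have h1 : (m : Localization.Away a) ∈ Submodule.torsion R (Localization.Away a) :=
    ⟨⟨r, hr⟩, congrArg Subtype.val h⟩
  rw [Module.Flat.torsion_eq_bot] at h1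
  exact Subtype.ext h1

/-- A blow-up of a scheme flat over a curve is flat over the curve. -/
theorem flat_blowUp_pid {X X' C : Scheme.{u}} (g : X ⟶ C) [Flat g]
    (hC : ∀ c : C, ∃ (V : C.Opens) (_ : IsAffineOpen V), c ∈ V ∧ IsDomain Γ(C, V) ∧ IsPrincipalIdealRing Γ(C, V))
    {𝓘 : X.IdealSheafData} {b : X' ⟶ X} (hb : BlowUp.IsBlowUp b 𝓘) : Flat (b ≫ g) := by
  suffices hloc : ∀ p : X', ∃ (Z : Scheme.{u}) (j : Z ⟶ X'),
      IsOpenImmersion j ∧ p ∈ Set.range j ∧ Flat (j ≫ b ≫ g) by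
    choose Z j hj hp hs using hloc
    refine IsZariskiLocalAtSource.of_iSup_eq_top (P := @Flat) (fun p => (j p).opensRange)
      (top_le_iff.1 fun p _ => Opens.mem_iSup.2 ⟨p, hp p⟩) fun p => ?_
    rw [← Scheme.Hom.isoOpensRange_inv_comp (j p), Category.assoc]
    haveI := hs p
    infer_instance
  intro p
  obtain ⟨V, hV, hpV, hdom, hpid⟩ := hC (g (b p))
  obtain ⟨U, hU, hpU, e⟩ := exists_isAffineOpen_mem_and_subset (show b p ∈ g ⁻¹ᵁ V from hpV)
  obtain ⟨a, ha, j, hjo, hpj, hjb⟩ := RegBlow6.exists_chart hb ⟨U, hU⟩ p hpU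
  refine ⟨_, j, hjo, hpj, ?_⟩
  letI := (g.appLE V U e).hom.toAlgebra
  haveI : Module.Flat Γ(C, V) Γ(X, U) := RingHom.flat_algebraMap_iff.1 (g.flat_appLE hV hU e)
  let B := BlowUp.affineAlgebra Γ(X, U) (𝓘.ideal ⟨U, hU⟩) a
  have hfac : j ≫ b ≫ g = Spec.map (CommRingCat.ofHom (algebraMap Γ(C, V) B)) ≫ hV.fromSpec := by
    rw [reassoc_of% hjb, ← IsAffineOpen.SpecMap_appLE_fromSpec g hV hU e]
    simp only [← Category.assoc, ← Spec.map_comp]
    rfl
  rw [hfac]
  haveI : Flat (Spec.map (CommRingCat.ofHom (algebraMap Γ(C, V) B))) := by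
    rw [HasRingHomProperty.Spec_iff (P := @Flat)]
    exact RingHom.flat_algebraMap_iff.2 (flat_affineAlgebra_pid Γ(C, V) _ a)
  infer_instance

/-- The charts of the projective line over a field are spectra of principal ideal domains. -/
theorem pid_cover (K : CommRingCat.{u}) (hK : IsField K) (c : CohB1.ProjSpaceOver 1 (Spec K)) :
    ∃ (V : (CohB1.ProjSpaceOver 1 (Spec K)).Opens) (_ : IsAffineOpen V), c ∈ V ∧
      IsDomain Γ(CohB1.ProjSpaceOver 1 (Spec K), V) ∧ IsPrincipalIdealRing Γ(CohB1.ProjSpaceOver 1 (Spec K), V) := by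
  letI : Field K := hK.toField
  let j : ∀ i, Spec (CommRingCat.of (Polynomial K)) ⟶ CohB1.ProjSpaceOver 1 (Spec K) :=
    fun i => H23.P1Charts.chart K i
  obtain ⟨i, y, hy⟩ := H23.P1Charts.exists_chart K c
  haveI : IsOpenImmersion (j i) := inferInstanceAs (IsOpenImmersion (H23.P1Charts.chart K i))
  let e : Γ(CohB1.ProjSpaceOver 1 (Spec K), j i ''ᵁ ⊤) ≃+* Polynomial K :=
    ((j i).appIso ⊤ ≪≫ Scheme.ΓSpecIso (CommRingCat.of (Polynomial K))).commRingCatIsoToRingEquiv
  exact ⟨j i ''ᵁ ⊤, (isAffineOpen_top _).image_of_isOpenImmersion _, ⟨y, trivial, hy⟩,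
    e.toMulEquiv.isDomain (Polynomial K), IsPrincipalIdealRing.of_surjective e.symm.toRingHom e.symm.surjective⟩

/-- Blowing up does not change the dimension over a field. -/
theorem fibreDimAt_blowUp {P M : Scheme.{u}} {K : CommRingCat.{u}} (hK : IsField K) (h : P ⟶ Spec K)
    [LocallyOfFiniteType h] {J : P.IdealSheafData} {b : M ⟶ P} [LocallyOfFiniteType b]
    (hb : BlowUp.IsBlowUp b J) {N : ℕ} (hP : ∀ p, FlatMor.fibreDimAt h p = N) (w : M) :
    FlatMor.fibreDimAt (b ≫ h) w = N := by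
  letI : Field K := hK.toField
  haveI : Subsingleton (Spec K) := inferInstanceAs (Subsingleton (PrimeSpectrum K))
  obtain ⟨z, -, -, hmax, he⟩ := FibDim.exists_fibMax_generization (b ≫ h) w
  rw [he]
  have hgen : ∀ z', z' ⤳ z → z' = z := fun z' hz' => hmax z' hz' (Subsingleton.elim _ _)
  have hnot : z ∉ ((J.comap b).support : Set M) := BlowUpX.notMem_support_of_generic hb.1 z hgen
  let U : P.Opens := J.support.compl
  have hzU : z ∈ b ⁻¹ᵁ U := fun hz => hnot (by
    rw [Scheme.IdealSheafData.support_comap]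
    exact hz)
  haveI : IsIso (b ∣_ U) := BlowUpLib.isIso_restrict hb U le_rfl
  let v : U := (b ∣_ U) ⟨z, hzU⟩
  have hrd : FibDim.rd (b ≫ h) z = FibDim.rd h (U.ι v) := by
    let j : (U : Scheme.{u}) ⟶ M := inv (b ∣_ U) ≫ (b ⁻¹ᵁ U).ι
    have hj : j v = z := by
      show ((b ∣_ U) ≫ inv (b ∣_ U) ≫ (b ⁻¹ᵁ U).ι) ⟨z, hzU⟩ = z
      rw [IsIso.hom_inv_id_assoc]
      rfl
    have hjb : j ≫ b = U.ι := by
      rw [Category.assoc, ← morphismRestrict_ι, IsIso.inv_hom_id_assoc]
    have h1 := Synt29.rd_comp_openImmersion (b ≫ h) (U.ι ≫ h) j (𝟙 _)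
      (by rw [reassoc_of% hjb, Category.comp_id]) v
    rw [hj, FibDim.rd_opens] at h1
    exact h1
  have hmax' : FibDim.FibMax h (U.ι v) := by
    rw [← FibDim.fibMax_opens_iff]
    intro v' hv' _
    have h2 : inv (b ∣_ U) v' ⤳ inv (b ∣_ U) v := hv'.map (inv (b ∣_ U)).continuous
    have h3 : inv (b ∣_ U) v = ⟨z, hzU⟩ := by
      show ((b ∣_ U) ≫ inv (b ∣_ U)) ⟨z, hzU⟩ = _
      rw [IsIso.hom_inv_id]
      rfl
    rw [h3] at h2
    have h4 : inv (b ∣_ U) v' = ⟨z, hzU⟩ := (b ⁻¹ᵁ U).ι.isOpenEmbedding.injective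
      (hgen _ (h2.map (b ⁻¹ᵁ U).ι.continuous))
    show v' = (b ∣_ U) ⟨z, hzU⟩
    rw [← h4]
    show v' = (inv (b ∣_ U) ≫ (b ∣_ U)) v'
    rw [IsIso.inv_hom_id]
    rfl
  rw [hrd, ← FibDim.fibreDimAt_eq_rd h hmax', hP]

theorem fibreDimAt_toBase (X : Scheme.{u}) (x : CohB1.ProjSpaceOver 1 X) :
    FlatMor.fibreDimAt (CohB1.ProjSpaceOver.toBase 1 X) x = ((1 : ℕ∞) : WithBot ℕ∞) := by
  rw [FibDim.fibreDimAt_eq_of_hasRelDim _
    (AlgSpDec.SmoothLocDim.hasRelDim_of_smoothOfRelativeDimension 1 _)]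
  rfl

/-- The dimension of the line over a space of dimension n. -/
theorem fibreDimAt_line {X S : Scheme.{u}} (f : X ⟶ S) [LocallyOfFiniteType f] {n : ℕ}
    (hf : ∀ x : X, FlatMor.fibreDimAt f x = n) (x : CohB1.ProjSpaceOver 1 X) :
    FlatMor.fibreDimAt (CohB1.ProjSpaceOver.toBase 1 X ≫ f) x = ((n + 1 : ℕ) : WithBot ℕ∞) := by
  rw [FibDim.fibreDimAt_comp_of_flat _ f x (Flat.stalkMap _ x), fibreDimAt_toBase, hf, add_comm]
  push_cast
  rfl

end Groth.Agent.H28.DefRel

end
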