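import Groth.Agent.H23.P1Sect
import Groth.Agent.H23.P1Conn
import Groth.Agent.H28.DefGeom
import Groth.Agent.H28.DefLine

/-!
# The sections of the projective line as effective Cartier divisors
-/

set_option autoImplicit false
set_option linter.style.haveILetI false
set_option linter.unusedSectionVars false
set_option backward.isDefEq.respectTransparency false
set_option backward.isDefEq.respectTransparency.types false
set_option maxHeartbeats 1000000

universe u

open CategoryTheory CategoryTheory.Limits AlgebraicGeometry TopologicalSpace Opposite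

noncomputable section

namespace Groth.Agent.H28.DefRel

open Groth.Agent H23.P1Sect

/-- A closed immersion cut out by one element in an affine chart. -/
theorem ker_ideal_chart {A C : Type u} [CommRing A] [CommRing C] {P : Scheme.{u}} (j : Spec (CommRingCat.of A) ⟶ P)
    [IsOpenImmersion j] (φ : A →+* C) (hφ : Function.Surjective φ)
    [IsClosedImmersion (Spec.map (CommRingCat.ofHom φ) ≫ j)] (e : A) (hk : RingHom.ker φ = Ideal.span {e}) :
    (Spec.map (CommRingCat.ofHom φ) ≫ j).ker.ideal ⟨j ''ᵁ ⊤, (isAffineOpen_top _).image_of_isOpenImmersion j⟩ =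
      Ideal.span {H23.P1Sect.secOf j e} := by
  let s := Spec.map (CommRingCat.ofHom φ) ≫ j
  let V := j ''ᵁ ⊤
  have hpre : s ⁻¹ᵁ V = ⊤ := top_unique fun x _ => ⟨_, trivial, rfl⟩
  have hj : (⊤ : (Spec (CommRingCat.of A)).Opens) ≤ j ⁻¹ᵁ V := (Scheme.Hom.preimage_image_eq j ⊤).ge
  have hinj : Function.Injective ((Spec (CommRingCat.of C)).presheaf.map (homOfLE hpre.ge).op).hom := by
    haveI : IsIso ((Spec (CommRingCat.of C)).presheaf.map (homOfLE hpre.ge).op) := by
      rw [Subsingleton.elim (homOfLE hpre.ge) (eqToHom hpre.symm)]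
      infer_instance
    exact (ConcreteCategory.bijective_of_isIso _).1
  have hval : ∀ a : A, s.appLE V ⊤ hpre.ge (H23.P1Sect.secOf j a) =
      (Scheme.ΓSpecIso (CommRingCat.of C)).inv (φ a) := fun a => by
    have h1 : j.appLE V ⊤ hj (H23.P1Sect.secOf j a) = (Scheme.ΓSpecIso (CommRingCat.of A)).inv a := by
      rw [H23.P1Sect.secOf, ← Scheme.Hom.appIso_hom' j]
      exact Iso.inv_hom_id_apply (j.appIso ⊤) _
    have h2 : (Spec.map (CommRingCat.ofHom φ)).appLE ⊤ ⊤ le_rfl ((Scheme.ΓSpecIso (CommRingCat.of A)).inv a) =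
        (Scheme.ΓSpecIso (CommRingCat.of C)).inv (φ a) := by
      rw [show (Spec.map (CommRingCat.ofHom φ)).appLE ⊤ ⊤ le_rfl = (Spec.map (CommRingCat.ofHom φ)).appTop by
        simp [Scheme.Hom.appLE, Scheme.Hom.appTop]]
      exact (congrArg (fun m : CommRingCat.of A ⟶ _ => m.hom a)
        (Scheme.ΓSpecIso_inv_naturality (CommRingCat.ofHom φ))).symm
    rw [← PBlow.comp_appLE_apply (Spec.map (CommRingCat.ofHom φ)) j V ⊤ ⊤ hj le_rfl rfl hpre.ge, h1, h2]
  have hbA : Function.Bijective (H23.P1Sect.secOf j) :=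
    (ConcreteCategory.bijective_of_isIso (j.appIso ⊤).inv).comp
      (ConcreteCategory.bijective_of_isIso (Scheme.ΓSpecIso (CommRingCat.of A)).inv)
  have hiff : ∀ a : A, H23.P1Sect.secOf j a ∈ RingHom.ker (s.app V).hom ↔ φ a = 0 := fun a => by
    rw [RingHom.mem_ker, ← map_eq_zero_iff _ hinj]
    show s.appLE V ⊤ hpre.ge (H23.P1Sect.secOf j a) = 0 ↔ _
    rw [hval, map_eq_zero_iff _ (ConcreteCategory.bijective_of_isIso (Scheme.ΓSpecIso (CommRingCat.of C)).inv).1]
  rw [Scheme.Hom.ker_apply]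
  refine Ideal.ext fun y => ?_
  obtain ⟨a, rfl⟩ := hbA.2 y
  show H23.P1Sect.secOf j a ∈ RingHom.ker (s.app V).hom ↔ _
  rw [hiff, ← RingHom.mem_ker, hk, Ideal.mem_span_singleton', Ideal.mem_span_singleton']
  have hmul : ∀ x, H23.P1Sect.secOf j (x * e) = H23.P1Sect.secOf j x * H23.P1Sect.secOf j e := fun x => by
    simp [H23.P1Sect.secOf]
  constructor
  · rintro ⟨c, rfl⟩
    exact ⟨_, (hmul c).symm⟩
  · rintro ⟨c, hc⟩
    obtain ⟨c, rfl⟩ := hbA.2 c
    exact ⟨c, hbA.1 ((hmul c).trans hc)⟩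

theorem secOf_mul {A : Type u} [CommRing A] {P : Scheme.{u}} (j : Spec (CommRingCat.of A) ⟶ P) [IsOpenImmersion j]
    (a b : A) : H23.P1Sect.secOf j (a * b) = H23.P1Sect.secOf j a * H23.P1Sect.secOf j b := by
  simp [H23.P1Sect.secOf]

/-- The points zero and infinity are effective Cartier divisors of the projective line over the integers. -/
theorem isEffCartier_point (i : Fin (1 + 1)) : BlowUp.IsEffCartierIdeal (P1.point.{u} i).ker := by
  haveI : IsClosedImmersion (Spec.map (CommRingCat.ofHom (P1.evalAway.{u} i)) ≫ jZ i) := isClosedImmersion_point i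
  haveI : IsDomain H23.P1Charts.Z.{u} := ULift.ringEquiv.toMulEquiv.isDomain ℤ
  refine DefLine.isEffCartier_ker (P1.point i) fun z => ⟨jZ i ''ᵁ ⊤, (isAffineOpen_top _).image_of_isOpenImmersion _,
    ?_, [cZ i], rfl, ?_, ?_⟩
  · exact ⟨_, trivial, rfl⟩
  · have hker := ker_ideal_chart (jZ i) (P1.evalAway.{u} i) (evalAway_surjective i) (eZ i) (ker_evalAway i)
    refine ⟨(RingTheory.Sequence.isWeaklyRegular_singleton_iff _ _).2 ?_, ?_⟩
    · intro x y hxy
      have hbA : Function.Bijective (H23.P1Sect.secOf (jZ.{u} i)) :=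
        (ConcreteCategory.bijective_of_isIso ((jZ i).appIso ⊤).inv).comp
          (ConcreteCategory.bijective_of_isIso (Scheme.ΓSpecIso _).inv)
      obtain ⟨x, rfl⟩ := hbA.2 x
      obtain ⟨y, rfl⟩ := hbA.2 y
      have h1 : H23.P1Sect.secOf (jZ i) (eZ i * x) = H23.P1Sect.secOf (jZ i) (eZ i * y) := by
        rw [secOf_mul, secOf_mul]
        exact hxy
      have h2 := congrArg (H23.P1Charts.θ.{u} i) (hbA.1 h1)
      rw [map_mul, map_mul, θ_eZ] at h2
      exact congrArg _ ((H23.P1Charts.θ_bijective i).1 (mul_left_cancel₀ Polynomial.X_ne_zero h2))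
    · intro he
      rw [smul_eq_mul, Ideal.mul_top, Ideal.ofList_singleton] at he
      have h1 : RingHom.ker ((P1.point.{u} i).app (jZ i ''ᵁ ⊤)).hom = ⊤ := by
        rw [← Scheme.Hom.ker_apply (P1.point i) ⟨_, (isAffineOpen_top _).image_of_isOpenImmersion (jZ i)⟩]
        exact hker.trans he.symm
      haveI : Nonempty ↥(P1.point.{u} i ⁻¹ᵁ (jZ i ''ᵁ ⊤)) := ⟨⟨z, ⟨_, trivial, rfl⟩⟩⟩
      exact RingHom.ker_ne_top _ h1
  · rw [Ideal.ofList_singleton]
    exact ker_ideal_chart (jZ i) (P1.evalAway.{u} i) (evalAway_surjective i) (eZ i) (ker_evalAway i)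

theorem point_toSpec (i : Fin (1 + 1)) : P1.point.{u} i ≫ CohB1.ProjSpace.toSpec 1 P1.R0.{u} = 𝟙 _ :=
  specULiftZIsTerminal.hom_ext _ _

variable (X : Scheme.{u})

theorem ker_sect_eq (i : Fin (1 + 1)) : (P1.sect X i).ker = (P1.point.{u} i).ker.comap (pr X) :=
  TorPull.ker_eq (isPullback_sect X i)

/-- The sections zero and infinity are effective Cartier divisors. -/
theorem isEffCartier_sect (i : Fin (1 + 1)) : BlowUp.IsEffCartierIdeal (P1.sect X i).ker := by
  rw [ker_sect_eq]
  exact DefGeom.isEffCartier_bc (CohB1.ProjSpace.toSpec 1 P1.R0.{u}) (specULiftZIsTerminal.from X) (P1.point i)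
    (point_toSpec i) (isEffCartier_point i)

variable {X} {Y : Scheme.{u}} (f : Y ⟶ X)

theorem toP1_fst : P1.toP1 f ≫ pr X = pr Y := (pullback.lift_fst _ _ _).trans (Category.comp_id _)

theorem toP1_snd : P1.toP1 f ≫ CohB1.ProjSpaceOver.toBase 1 X = CohB1.ProjSpaceOver.toBase 1 Y ≫ f :=
  pullback.lift_snd _ _ _

theorem sect_toP1 (i : Fin (1 + 1)) : P1.sect Y i ≫ P1.toP1 f = f ≫ P1.sect X i := by
  refine pullback.hom_ext ?_ ?_
  · rw [Category.assoc, toP1_fst, P1.sect, pullback.lift_fst, Category.assoc, P1.sect, pullback.lift_fst]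
    rw [← Category.assoc, specULiftZIsTerminal.hom_ext (f ≫ specULiftZIsTerminal.from X) (specULiftZIsTerminal.from Y)]
  · rw [Category.assoc, Category.assoc]
    show P1.sect Y i ≫ P1.toP1 f ≫ CohB1.ProjSpaceOver.toBase 1 X = f ≫ P1.sect X i ≫ CohB1.ProjSpaceOver.toBase 1 X
    rw [toP1_snd, reassoc_of% sect_toBase Y i, sect_toBase, Category.comp_id]

theorem ker_sect_comap (i : Fin (1 + 1)) : (P1.sect Y i).ker = (P1.sect X i).ker.comap (P1.toP1 f) := by
  rw [ker_sect_eq, ker_sect_eq, ← Scheme.IdealSheafData.comap_comp, toP1_fst]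

theorem isClosedImmersion_toP1 [IsClosedImmersion f] : IsClosedImmersion (P1.toP1 f) :=
  MorphismProperty.of_isPullback (P := @IsClosedImmersion) (H23.P1Conn.isPullback_toP1 f).flip ‹_›

/-- The ideal of the centre. -/
theorem centre_ideal [IsClosedImmersion f] (i : Fin (1 + 1)) (U : (CohB1.ProjSpaceOver 1 X).affineOpens) :
    (f ≫ P1.sect X i).ker.ideal U = (P1.toP1 f).ker.ideal U ⊔ (P1.sect X i).ker.ideal U := by
  haveI := isClosedImmersion_toP1 f
  rw [← sect_toP1]
  exact DefGeom.ker_comp (P1.toP1 f) (P1.sect Y i) _ (ker_sect_comap f i) U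

end Groth.Agent.H28.DefRel

end
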