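import Groth.Agent.H28.DefRel.StrictReg
import Groth.Agent.H28.DefRel.P1Cartier
import Groth.Agent.AlgSpPts.Sep
import Groth.Agent.BlowUpLib.Glue
import Groth.Agent.HTopCov.PhSquare
import Groth.Agent.H23.P1Proper

/-!
# The strict transform of the line over the centre
-/

set_option autoImplicit false
set_option linter.style.haveILetI false
set_option linter.unusedSectionVars false
set_option backward.isDefEq.respectTransparency false
set_option backward.isDefEq.respectTransparency.types false
set_option maxHeartbeats 1000000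

universe u

open CategoryTheory CategoryTheory.Limits AlgebraicGeometry TopologicalSpace Opposite

noncomputable section

namespace Groth.Agent.H28.DefRel

open Groth.Agent

variable {S X Y M : Scheme.{u}} (f : X ⟶ S) (i : Y ⟶ X) [IsClosedImmersion i]

theorem lfp_sect (Z : Scheme.{u}) (a : Fin (1 + 1)) : LocallyOfFinitePresentation (P1.sect Z a) := by
  haveI : LocallyOfFinitePresentation (P1.sect Z a ≫ CohB1.ProjSpaceOver.toBase 1 Z) := by
    rw [H23.P1Sect.sect_toBase]; infer_instance
  exact AlgSpPts.locallyOfFinitePresentation_of_comp _ (CohB1.ProjSpaceOver.toBase 1 Z)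

theorem fType_centre [LocallyOfFiniteType f] [LocallyOfFinitePresentation (i ≫ f)] (a : Fin (1 + 1)) :
    BlowUp.IsFiniteTypeIdeal (i ≫ P1.sect X a).ker := by
  haveI := AlgSpPts.locallyOfFinitePresentation_of_comp i f
  haveI := lfp_sect X a
  exact HTopCov.isFiniteTypeIdeal_ker _

theorem isProper_def [LocallyOfFiniteType f] [LocallyOfFinitePresentation (i ≫ f)]
    {b : M ⟶ CohB1.ProjSpaceOver 1 X} (hb : BlowUp.IsBlowUp b (i ≫ P1.sect X 1).ker) : IsProper b :=
  BlowUpLib.isProper_of_isBlowUp _ hb (fType_centre f i 1)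

theorem regular_toP1 {c : ℕ} (hi : RegImm.IsRegularImmersionOfCodim RegImm.Kind.regular c i) :
    RegImm.IsRegularImmersionOfCodim RegImm.Kind.regular c (P1.toP1 i) :=
  regularOfCodim_flatBC (g := CohB1.ProjSpaceOver.toBase 1 X) (g' := CohB1.ProjSpaceOver.toBase 1 Y)
    (H23.P1Conn.isPullback_toP1 i).flip hi

theorem strict_line [LocallyOfFiniteType f] [LocallyOfFinitePresentation (i ≫ f)] {c : ℕ}
    (hi : RegImm.IsRegularImmersionOfCodim RegImm.Kind.regular c i)
    {b : M ⟶ CohB1.ProjSpaceOver 1 X} (hb : BlowUp.IsBlowUp b (i ≫ P1.sect X 1).ker)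
    (j : CohB1.ProjSpaceOver 1 Y ⟶ M) (hj : j ≫ b = P1.toP1 i) :
    IsClosedImmersion j ∧ RegImm.IsRegularImmersionOfCodim RegImm.Kind.regular c j := by
  haveI := isProper_def f i hb
  haveI := isClosedImmersion_toP1 i
  haveI : IsClosedImmersion (j ≫ b) := hj ▸ ‹IsClosedImmersion (P1.toP1 i)›
  haveI hjc : IsClosedImmersion j := IsClosedImmersion.of_comp j b
  exact ⟨hjc, isRegular_strict hb (P1.toP1 i) (regular_toP1 i hi) (P1.sect X 1).ker (isEffCartier_sect X 1)
    (ker_sect_comap i 1 ▸ isEffCartier_sect Y 1) (centre_ideal i 1) j hj⟩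

end Groth.Agent.H28.DefRel

end
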