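import Groth.Agent.H28.DefRel.Fibres
import Groth.Agent.H28.DefRel.Strict
import Groth.Agent.BlowNF.Scheme
import Groth.Agent.GrpSchLib.HomFibre
import Groth.Agent.RelVA16.BlowUpProj
import Groth.Agent.S9708
import Groth.Agent.ProjCl17.HProj
import Groth.Agent.CanonEval.Thick

/-!
# The deformation space over the projective line of the base
-/

set_option autoImplicit false
set_option linter.style.haveILetI false
set_option linter.unusedSectionVars false
set_option backward.isDefEq.respectTransparency false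
set_option backward.isDefEq.respectTransparency.types false
set_option maxHeartbeats 1000000

universe u

open CategoryTheory CategoryTheory.Limits AlgebraicGeometry TopologicalSpace Opposite

noncomputable section

namespace Groth.Agent.H28.DefRel

open Groth.Agent

variable {S X Y M : Scheme.{u}} (f : X ⟶ S) (i : Y ⟶ X) [IsClosedImmersion i]

theorem toP1_toBase : P1.toP1 f ≫ CohB1.ProjSpaceOver.toBase 1 S = CohB1.ProjSpaceOver.toBase 1 X ≫ f :=
  (H23.P1Conn.isPullback_toP1 f).w

theorem isPullback_toP1_sq {S' X' : Scheme.{u}} (h : S' ⟶ S) (f' : X' ⟶ S') (g : X' ⟶ X)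
    (hX : IsPullback g f' f h) : IsPullback (P1.toP1 g) (P1.toP1 f') (P1.toP1 f) (P1.toP1 h) := by
  refine IsPullback.of_bot ?_ ?_ (H23.P1Conn.isPullback_toP1 h)
  · rw [toP1_toBase, toP1_toBase]
    exact (H23.P1Conn.isPullback_toP1 g).paste_vert hX
  · refine pullback.hom_ext ?_ ?_
    · rw [Category.assoc, Category.assoc, toP1_fst, toP1_fst, toP1_fst, toP1_fst]
    · rw [Category.assoc, Category.assoc]
      show P1.toP1 g ≫ P1.toP1 f ≫ CohB1.ProjSpaceOver.toBase 1 S =
        P1.toP1 f' ≫ P1.toP1 h ≫ CohB1.ProjSpaceOver.toBase 1 S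
      rw [toP1_toBase, toP1_toBase, reassoc_of% toP1_toBase g, reassoc_of% toP1_toBase f', hX.w]

theorem lfp_centre [LocallyOfFinitePresentation (i ≫ f)] (a : Fin (1 + 1)) :
    LocallyOfFinitePresentation ((i ≫ P1.sect X a).ker.subschemeι ≫ CohB1.ProjSpaceOver.toBase 1 X ≫ f) := by
  let z := i ≫ P1.sect X a
  haveI : IsClosedImmersion z := inferInstanceAs (IsClosedImmersion (i ≫ P1.sect X a))
  have hι : z.ker.subschemeι = inv z.toImage ≫ z := (IsIso.eq_inv_comp z.toImage).2 z.toImage_imageι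
  have he : z ≫ CohB1.ProjSpaceOver.toBase 1 X ≫ f = i ≫ f := by
    show (i ≫ P1.sect X a) ≫ _ = _
    rw [Category.assoc, reassoc_of% H23.P1Sect.sect_toBase]
  show LocallyOfFinitePresentation (z.ker.subschemeι ≫ _)
  rw [hι, Category.assoc, he]
  infer_instance

variable [Flat f] [LocallyOfFinitePresentation f] [Flat (i ≫ f)] [LocallyOfFinitePresentation (i ≫ f)]
  {c : ℕ} (hi : RegImm.IsRegularImmersionOfCodim RegImm.Kind.regular c i)
  {b : M ⟶ CohB1.ProjSpaceOver 1 X} (hb : BlowUp.IsBlowUp b (i ≫ P1.sect X 1).ker)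

include f hi hb in
theorem lfp_def : LocallyOfFinitePresentation b := by
  haveI : Flat ((i ≫ P1.sect X 1).ker.subschemeι ≫ CohB1.ProjSpaceOver.toBase 1 X ≫ f) := by
    have h := flat_thickenings i f hi 1 0
    exact (congrArg (fun I : (CohB1.ProjSpaceOver 1 X).IdealSheafData =>
      Flat (I.subschemeι ≫ CohB1.ProjSpaceOver.toBase 1 X ≫ f)) (pow_one _)).mp h
  haveI := lfp_centre f i 1
  exact BlowNF.lfp_blowUp (nflat_ker _ (Synt29.SectionSmooth.quasi_of_koszul (koszul_centre i hi 1))) hb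
    (CohB1.ProjSpaceOver.toBase 1 X ≫ f)

include hi hb in
theorem flat_def : Flat (b ≫ CohB1.ProjSpaceOver.toBase 1 X ≫ f) :=
  BlowNF.flat_blowUp _ (flat_thickenings i f hi 1) hb

include hi hb in
/-- The deformation space over a residue field, flat over the line and of pure dimension. -/
theorem fibre_props {n : ℕ} (hfdim : ∀ x : X, FlatMor.fibreDimAt f x = n) (s : S) :
    ∃ (Ms : Scheme.{u}) (μ : Ms ⟶ M) (F : Ms ⟶ CohB1.ProjSpaceOver 1 (Spec (S.residueField s))),
      IsPullback μ F (b ≫ P1.toP1 f) (P1.toP1 (S.fromSpecResidueField s)) ∧ Flat F ∧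
      LocallyOfFiniteType (F ≫ CohB1.ProjSpaceOver.toBase 1 (Spec (S.residueField s))) ∧
      ∀ w : Ms, FlatMor.fibreDimAt (F ≫ CohB1.ProjSpaceOver.toBase 1 (Spec (S.residueField s))) w =
        ((n + 1 : ℕ) : WithBot ℕ∞) := by
  haveI := lfp_def f i hi hb
  let h := S.fromSpecResidueField s
  let g := pullback.fst f h
  let f' := pullback.snd f h
  have hX : IsPullback g f' f h := IsPullback.of_hasPullback f h
  haveI : LocallyOfFinitePresentation f' := MorphismProperty.pullback_snd _ _ inferInstance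
  have hY : IsPullback (pullback.fst i g) (pullback.snd i g) i g := IsPullback.of_hasPullback i g
  have hM : IsPullback (pullback.fst b (P1.toP1 g)) (pullback.snd b (P1.toP1 g)) b (P1.toP1 g) :=
    IsPullback.of_hasPullback _ _
  haveI : LocallyOfFinitePresentation (pullback.snd b (P1.toP1 g)) := MorphismProperty.pullback_snd _ _ inferInstance
  have hbs := isBlowUp_baseChange f i hi 1 b hb h f' g hX _ _ hY _ _ hM
  haveI : Flat f' := inferInstance
  haveI : Flat (P1.toP1 f') :=
    MorphismProperty.of_isPullback (P := @Flat) (H23.P1Conn.isPullback_toP1 f').flip inferInstance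
  have hK : IsField (S.residueField s) := Field.toIsField _
  have hdimX : ∀ x, FlatMor.fibreDimAt f' x = n := fun x => by rw [FibDim.fibreDimAt_baseChange hX, hfdim]
  refine ⟨_, pullback.fst b (P1.toP1 g), pullback.snd b (P1.toP1 g) ≫ P1.toP1 f',
    hM.paste_vert (isPullback_toP1_sq f h f' g hX), flat_blowUp_pid (P1.toP1 f') (pid_cover _ hK) hbs, ?_, ?_⟩
  · rw [Category.assoc, toP1_toBase]
    infer_instance
  · intro w
    have := fibreDimAt_blowUp hK (CohB1.ProjSpaceOver.toBase 1 _ ≫ f') hbs (fibreDimAt_line f' hdimX) w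
    rwa [Category.assoc, toP1_toBase]

include hi hb in
/-- The deformation space is flat over the line. -/
theorem flat_overLine {n : ℕ} (hfdim : ∀ x : X, FlatMor.fibreDimAt f x = n) : Flat (b ≫ P1.toP1 f) := by
  haveI := lfp_def f i hi hb
  haveI := flat_def f i hi hb
  let k := (b ≫ P1.toP1 f) ≫ CohB1.ProjSpaceOver.toBase 1 S
  have w : k = b ≫ CohB1.ProjSpaceOver.toBase 1 X ≫ f :=
    (Category.assoc _ _ _).trans (congrArg (b ≫ ·) (toP1_toBase f))
  haveI : Flat k := by rw [w]; infer_instance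
  haveI : LocallyOfFinitePresentation k := by rw [w]; infer_instance
  refine (Flat.iff_flat_stalkMap _).2 fun m => ?_
  obtain ⟨Ms, μ, F, hsq, hF, -, -⟩ := fibre_props f i hi hb hfdim (k m)
  have hb1 := H23.P1Conn.isPullback_toP1 (S.fromSpecResidueField (k m))
  have hbig : IsPullback μ (F ≫ CohB1.ProjSpaceOver.toBase 1 _) k (S.fromSpecResidueField (k m)) :=
    hsq.paste_vert hb1
  let φ : pullback k (S.fromSpecResidueField (k m)) ⟶
      pullback (CohB1.ProjSpaceOver.toBase 1 S) (S.fromSpecResidueField (k m)) :=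
    hbig.isoPullback.inv ≫ F ≫ hb1.isoPullback.hom
  have h1 : φ ≫ pullback.fst _ _ = pullback.fst _ _ ≫ b ≫ P1.toP1 f := by
    simp only [φ, Category.assoc, hb1.isoPullback_hom_fst]
    rw [← hsq.w, IsPullback.isoPullback_inv_fst_assoc]
  have h2 : φ ≫ pullback.snd _ _ = pullback.snd _ _ := by
    simp only [φ, Category.assoc, hb1.isoPullback_hom_snd]
    exact IsPullback.isoPullback_inv_snd hbig
  haveI : Flat φ := inferInstance
  obtain ⟨z, hz⟩ : m ∈ Set.range (pullback.fst k (S.fromSpecResidueField (k m))) := by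
    show m ∈ Set.range (k.fiberι (k m))
    rw [Scheme.Hom.range_fiberι]
    rfl
  rw [← hz]
  exact GrpSchLib.HomFibre.flat_of_fibre_flat (b ≫ P1.toP1 f) (CohB1.ProjSpaceOver.toBase 1 S) k rfl (k m) z φ h1 h2
    (Flat.stalkMap φ z)

include hi hb in
/-- The fibres over the line have dimension n. -/
theorem fibreDimAt_overLine {n : ℕ} (hfdim : ∀ x : X, FlatMor.fibreDimAt f x = n) (m : M) :
    FlatMor.fibreDimAt (b ≫ P1.toP1 f) m = n := by
  haveI := lfp_def f i hi hb
  haveI := flat_overLine f i hi hb hfdim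
  haveI : LocallyOfFinitePresentation (P1.toP1 f) :=
    MorphismProperty.of_isPullback (P := @LocallyOfFinitePresentation) (H23.P1Conn.isPullback_toP1 f).flip inferInstance
  let F := b ≫ P1.toP1 f
  let k := F ≫ CohB1.ProjSpaceOver.toBase 1 S
  obtain ⟨Ms, μ, F', hsq, -, hlft, hdim⟩ := fibre_props f i hi hb hfdim (k m)
  have hbig : IsPullback μ (F' ≫ CohB1.ProjSpaceOver.toBase 1 _) k (S.fromSpecResidueField (k m)) :=
    hsq.paste_vert (H23.P1Conn.isPullback_toP1 _)
  obtain ⟨w, hw, -⟩ := Scheme.exists_preimage_of_isPullback hbig m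
    (IsLocalRing.closedPoint (S.residueField (k m))) (Scheme.fromSpecResidueField_apply (k m) _).symm
  have h1 := FibDim.fibreDimAt_baseChange hbig w
  rw [hdim, hw] at h1
  have h2 := FibDim.fibreDimAt_comp_of_flat F (CohB1.ProjSpaceOver.toBase 1 S) m (Flat.stalkMap F m)
  rw [fibreDimAt_toBase, ← h1] at h2
  obtain ⟨z, -, -, -, he⟩ := FibDim.exists_fibMax_generization F m
  rw [he] at h2 ⊢
  have h3 : n + 1 = FibDim.rd F z + 1 := by exact_mod_cast h2
  rw [show FibDim.rd F z = n by omega]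
  rfl

include hi hb in
/-- The deformation space surjects onto the line of the base. -/
theorem surjective_overLine [Surjective f] : Surjective (b ≫ P1.toP1 f) := by
  haveI := isClosedImmersion_toP1 i
  have hJ : (i ≫ P1.sect X 1).ker.comap (P1.toP1 i) = (P1.sect Y 1).ker := by
    refine (TorPull.ker_eq (ψ := 𝟙 Y) ?_).symm
    have hw : P1.sect Y 1 ≫ P1.toP1 i = i ≫ P1.sect X 1 := sect_toP1 i 1
    refine ⟨⟨by rw [hw, Category.id_comp]⟩, ⟨PullbackCone.IsLimit.mk _ (fun t => t.snd) (fun t => ?_) (fun t => ?_)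
      fun t l h1 h2 => ?_⟩⟩
    · show t.snd ≫ P1.sect Y 1 = t.fst
      rw [← cancel_mono (P1.toP1 i), Category.assoc, hw]
      exact t.condition.symm
    · exact Category.comp_id _
    · rw [← h2, Category.comp_id]
  obtain ⟨j, hj, -⟩ := hb.2 _ (P1.toP1 i) (hJ ▸ isEffCartier_sect Y 1)
  have hbs : Surjective b := by
    refine ⟨fun x => ?_⟩
    by_cases hx : x ∈ Set.range (P1.toP1 i)
    · obtain ⟨y, rfl⟩ := hx
      exact ⟨j y, by rw [← Scheme.Hom.comp_apply, hj]⟩
    · let U : (CohB1.ProjSpaceOver 1 X).Opens := (i ≫ P1.sect X 1).ker.support.compl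
      have hxU : x ∈ U := fun h => hx (by
        change x ∈ ((i ≫ P1.sect X 1).ker.support : Set _) at h
        rw [Scheme.Hom.support_ker, (i ≫ P1.sect X 1).isClosedEmbedding.isClosed_range.closure_eq] at h
        obtain ⟨y, rfl⟩ := h
        exact ⟨P1.sect Y 1 y, by rw [← Scheme.Hom.comp_apply, sect_toP1]⟩)
      haveI : IsIso (b ∣_ U) := BlowUpLib.isIso_restrict hb U le_rfl
      obtain ⟨z, hz⟩ := (b ∣_ U).surjective ⟨x, hxU⟩
      exact ⟨(b ⁻¹ᵁ U).ι z, by rw [← Scheme.Hom.comp_apply, ← morphismRestrict_ι, Scheme.Hom.comp_apply, hz]; rfl⟩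
  haveI : Surjective (P1.toP1 f) :=
    MorphismProperty.of_isPullback (P := @Surjective) (H23.P1Conn.isPullback_toP1 f).flip inferInstance
  infer_instance

/-- Local projectivity in the two senses. -/
theorem redSub_of_hProjective {X' T : Scheme.{u}} (g : X' ⟶ T)
    (h : ∀ t : T, ∃ V : T.Opens, t ∈ V ∧ RelProj.IsHProjective (g ∣_ V)) :
    RedSub.IsLocallyProjective (Over.mk g) := fun t => by
  obtain ⟨V, htV, N, e, he, hw⟩ := h t
  refine ⟨V, htV, N, (pullbackRestrictIsoRestrict g V).hom ≫ e, inferInstance, ?_⟩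
  refine (Category.assoc _ _ _).trans ?_
  rw [hw, pullbackRestrictIsoRestrict_hom_morphismRestrict]
  rfl

theorem hProjective_of_redSub {X' T : Scheme.{u}} (g : X' ⟶ T) (h : RedSub.IsLocallyProjective (Over.mk g)) (t : T) :
    ∃ V : T.Opens, t ∈ V ∧ RelProj.IsHProjective (g ∣_ V) := by
  obtain ⟨V, htV, N, e, he, hw⟩ := h t
  refine ⟨V, htV, N, (pullbackRestrictIsoRestrict g V).inv ≫ e, inferInstance, ?_⟩
  refine (Category.assoc _ _ _).trans ?_
  rw [hw]
  rfl

include hb in
/-- The deformation space is locally projective over the line. -/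
theorem projective_overLine (hfproj : RedSub.IsLocallyProjective (Over.mk f)) :
    RedSub.IsLocallyProjective (Over.mk (b ≫ P1.toP1 f)) := by
  have hbp : RelProj.IsProjective b := RelVA16.isProjective_blowUp _ (fType_centre f i 1) hb
  refine redSub_of_hProjective _ fun p => ?_
  obtain ⟨V, hpV, hV⟩ := hProjective_of_redSub f hfproj (CohB1.ProjSpaceOver.toBase 1 S p)
  obtain ⟨W, hW, hpW, hWV⟩ := exists_isAffineOpen_mem_and_subset
    (show p ∈ CohB1.ProjSpaceOver.toBase 1 S ⁻¹ᵁ V from hpV)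
  haveI : IsAffine W.toScheme := hW
  refine ⟨W, hpW, ProjCl17.isHProjective_of_isProjective_of_isAffine ?_⟩
  rw [morphismRestrict_comp]
  refine Groth.Agent.S9708.result _ _ ?_ ?_
  · exact ProjCl17.isProjective_baseChange (g := (P1.toP1 f ⁻¹ᵁ W).ι) (g' := (b ⁻¹ᵁ (P1.toP1 f ⁻¹ᵁ W)).ι)
      (isPullback_morphismRestrict b (P1.toP1 f ⁻¹ᵁ W)).flip hbp
  · let q : (W : Scheme.{u}) ⟶ V :=
      IsOpenImmersion.lift V.ι (W.ι ≫ CohB1.ProjSpaceOver.toBase 1 S) (by
        rintro _ ⟨w, rfl⟩
        rw [Scheme.Opens.range_ι]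
        exact hWV w.2)
    have hq : q ≫ V.ι = W.ι ≫ CohB1.ProjSpaceOver.toBase 1 S := IsOpenImmersion.lift_fac _ _ _
    have houter : IsPullback ((P1.toP1 f ⁻¹ᵁ W).ι ≫ CohB1.ProjSpaceOver.toBase 1 X) (P1.toP1 f ∣_ W) f
        (W.ι ≫ CohB1.ProjSpaceOver.toBase 1 S) :=
      (isPullback_morphismRestrict (P1.toP1 f) W).flip.paste_horiz (H23.P1Conn.isPullback_toP1 f).flip
    rw [← hq] at houter
    have hinner := (isPullback_morphismRestrict f V).flip
    refine ProjCl17.isProjective_baseChange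
      (g := q) (g' := hinner.lift ((P1.toP1 f ⁻¹ᵁ W).ι ≫ CohB1.ProjSpaceOver.toBase 1 X) (P1.toP1 f ∣_ W ≫ q)
        (by rw [houter.w, Category.assoc])) ?_ (ProjCl17.isProjective_of_isHProjective hV)
    refine IsPullback.of_right ?_ (hinner.lift_snd _ _ _) hinner
    rw [hinner.lift_fst]
    exact houter

end Groth.Agent.H28.DefRel

end
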