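import Groth.Agent.H28.DefRel.StrictBlow
import Groth.Agent.H28.DefRel.Strict

/-!
# Strict transforms in the deformation to the normal cone of a composite
-/

set_option autoImplicit false
set_option linter.style.haveILetI false
set_option linter.unusedSectionVars false
set_option backward.isDefEq.respectTransparency false
set_option backward.isDefEq.respectTransparency.types false
set_option maxHeartbeats 2000000

universe u

open CategoryTheory CategoryTheory.Limits AlgebraicGeometry TopologicalSpace Opposite RingTheory.Sequence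

noncomputable section

namespace Groth.Agent.H28.DefRel

open Groth.Agent Groth.Agent.WiebeLib

/-- The ideal of a closed subscheme, inverse imaged to an intermediate closed subscheme. -/
theorem ker_comp_comap {Z P B : Scheme.{u}} (t : Z ⟶ P) [IsClosedImmersion t] (q : P ⟶ B) [IsClosedImmersion q] :
    (t ≫ q).ker.comap q = t.ker := by
  refine (TorPull.ker_eq (F := t ≫ q) (ψ := 𝟙 Z) ?_).symm
  refine ⟨⟨by rw [Category.id_comp]⟩, ⟨PullbackCone.IsLimit.mk _ (fun s => s.snd) (fun s => ?_) (fun s => ?_)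
    fun s l h1 h2 => ?_⟩⟩
  · show s.snd ≫ t = s.fst
    rw [← cancel_mono q, Category.assoc]
    exact s.condition.symm
  · exact Category.comp_id _
  · rw [← h2, Category.comp_id]

/-- Concatenating regular sequences. -/
theorem isWeaklyRegular_append_of_surj {A C : Type u} [CommRing A] [CommRing C] (φ : A →+* C)
    (hφ : Function.Surjective φ) {rs rs' : List A} (hker : RingHom.ker φ = Ideal.ofList rs)
    (h : IsWeaklyRegular A rs) (h' : IsWeaklyRegular C (rs'.map φ)) : IsWeaklyRegular A (rs ++ rs') := by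
  rw [isWeaklyRegular_append_iff]
  refine ⟨h, ?_⟩
  let e : (A ⧸ (Ideal.ofList rs • ⊤ : Submodule A A)) ≃+ C :=
    ((Submodule.quotEquivOfEq _ _ (by rw [smul_eq_mul, Ideal.mul_top, hker])).toAddEquiv).trans
      (RingHom.quotientKerEquivOfSurjective hφ).toAddEquiv
  refine (AddEquiv.isWeaklyRegular_congr (e := e) (List.forall₂_map_right_iff.mpr
    (List.forall₂_same.mpr fun r _ v => ?_))).2 h'
  obtain ⟨v, rfl⟩ := Submodule.Quotient.mk_surjective _ v
  exact map_mul φ r v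

/-- Restriction along affine opens is flat. -/
theorem flat_res {W : Scheme.{u}} {U V : W.Opens} (hU : IsAffineOpen U) (hV : IsAffineOpen V) (h : V ≤ U) :
    (W.presheaf.map (homOfLE h).op).hom.Flat := by
  have hid : V ≤ (𝟙 W : W ⟶ W) ⁻¹ᵁ U := h
  have h2 := (𝟙 W : W ⟶ W).flat_appLE hU hV hid
  rwa [show (𝟙 W : W ⟶ W).appLE U V hid = W.presheaf.map (homOfLE h).op by simp [Scheme.Hom.appLE]] at h2

/-- A regular closed immersion on a smaller affine open. -/
theorem seq_res {Z W : Scheme.{u}} (i : Z ⟶ W) [IsClosedImmersion i] {U V : W.Opens} (hU : IsAffineOpen U)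
    (hV : IsAffineOpen V) (h : V ≤ U) {rs : List Γ(W, U)} (hrs : IsWeaklyRegular Γ(W, U) rs)
    (hk : RingHom.ker (i.app U).hom = Ideal.ofList rs) :
    IsWeaklyRegular Γ(W, V) (rs.map (W.presheaf.map (homOfLE h).op).hom) ∧
      RingHom.ker (i.app V).hom = Ideal.ofList (rs.map (W.presheaf.map (homOfLE h).op).hom) :=
  ⟨isWeaklyRegular_map_flat _ (flat_res hU hV h) hrs, by
    rw [← Scheme.Hom.ker_apply i ⟨V, hV⟩, ← i.ker.map_ideal (U := ⟨V, hV⟩) (V := ⟨U, hU⟩) h, Scheme.Hom.ker_apply,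
      hk, Ideal.map_ofList]
    rfl⟩

theorem ofList_ofFn {A : Type u} [CommRing A] {n : ℕ} (f : Fin n → A) :
    Ideal.ofList (List.ofFn f) = Ideal.span (Set.range f) :=
  congrArg Ideal.span (Set.ext fun x => by simp [List.mem_ofFn, Set.mem_range])

theorem exists_fun_of_list {A : Type u} {rs : List A} {c : ℕ} (h : rs.length = c) :
    ∃ x : Fin c → A, List.ofFn x = rs := by
  subst h
  exact ⟨rs.get, List.ofFn_get rs⟩

variable {X Y Z : Scheme.{u}} (i : Y ⟶ X) [IsClosedImmersion i] (i' : Z ⟶ Y) [IsClosedImmersion i'] {c c' : ℕ}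
  (hi : RegImm.IsRegularImmersionOfCodim RegImm.Kind.regular c i)
  (hi' : RegImm.IsRegularImmersionOfCodim RegImm.Kind.regular c' i')

include hi hi' in
/-- Regular sequences for a composite near a point of the smaller subscheme. -/
theorem exists_seq_comp (z : Z) : ∃ (W : X.Opens) (_ : IsAffineOpen W) (_ : i (i' z) ∈ W) (rs rs' : List Γ(X, W)),
    rs.length = c ∧ IsWeaklyRegular Γ(X, W) rs ∧ RingHom.ker (i.app W).hom = Ideal.ofList rs ∧
      IsWeaklyRegular Γ(X, W) (rs ++ rs') ∧ RingHom.ker ((i' ≫ i).app W).hom = Ideal.ofList (rs ++ rs') := by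
  obtain ⟨⟨U, hU⟩, hzU, -, rs, hlen, hrs, hker⟩ := hi.2 (i' z)
  obtain ⟨⟨V, hV⟩, hzV, -, rs', -, hrs', hker'⟩ := hi'.2 z
  obtain ⟨O, hO, hOV⟩ := i.isClosedEmbedding.isInducing.isOpen_iff.1 V.isOpen
  obtain ⟨W, hW, hzW, hle⟩ := exists_isAffineOpen_mem_and_subset (show i (i' z) ∈ U ⊓ ⟨O, hO⟩ from ⟨hzU, by
    have : i' z ∈ i ⁻¹' O := hOV.ge hzV
    exact this⟩)
  have hWU : W ≤ U := (show W ≤ U ⊓ ⟨O, hO⟩ from hle).trans inf_le_left
  have hWV : i ⁻¹ᵁ W ≤ V := fun w hw => hOV.le ((show W ≤ U ⊓ ⟨O, hO⟩ from hle) hw).2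
  obtain ⟨hx, hxk⟩ := seq_res i hU hW hWU hrs.toIsWeaklyRegular hker
  obtain ⟨hy, hyk⟩ := seq_res i' hV (hW.preimage i) hWV hrs'.toIsWeaklyRegular hker'
  have hsurj : Function.Surjective (i.app W).hom := i.app_surjective W hW
  obtain ⟨ys, hys⟩ := List.map_surjective_iff.2 hsurj (rs'.map (Y.presheaf.map (homOfLE hWV).op).hom)
  refine ⟨W, hW, hzW, rs.map (X.presheaf.map (homOfLE hWU).op).hom, ys, by rw [List.length_map, hlen], hx, hxk,
    isWeaklyRegular_append_of_surj _ hsurj hxk hx (hys.symm ▸ hy), ?_⟩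
  have happ : ((i' ≫ i).app W).hom = (i'.app (i ⁻¹ᵁ W)).hom.comp (i.app W).hom := rfl
  rw [happ, ← RingHom.comap_ker, hyk, ← hys, ← Ideal.map_ofList, Ideal.comap_map_of_surjective _ hsurj,
    ← RingHom.ker_eq_comap_bot, hxk, Ideal.ofList_append, sup_comm]

include hi in
/-- The equations of the line over the centre on a small open. -/
theorem line_seq {W : X.Opens} (hW : IsAffineOpen W) {U : (CohB1.ProjSpaceOver 1 X).Opens} (hU : IsAffineOpen U)
    (hUW : U ≤ CohB1.ProjSpaceOver.toBase 1 X ⁻¹ᵁ W) {rs : List Γ(X, W)} (hrs : IsWeaklyRegular Γ(X, W) rs)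
    (hker : RingHom.ker (i.app W).hom = Ideal.ofList rs) :
    IsWeaklyRegular Γ(CohB1.ProjSpaceOver 1 X, U) (rs.map ((CohB1.ProjSpaceOver.toBase 1 X).appLE W U hUW).hom) ∧
      (P1.toP1 i).ker.ideal ⟨U, hU⟩ = Ideal.ofList (rs.map ((CohB1.ProjSpaceOver.toBase 1 X).appLE W U hUW).hom) :=
  ⟨isWeaklyRegular_map_flat _ ((CohB1.ProjSpaceOver.toBase 1 X).flat_appLE hW hU hUW) hrs, by
    rw [TorPull.ker_eq (H23.P1Conn.isPullback_toP1 i), ModPairLib.ideal_comap _ _ ⟨W, hW⟩ ⟨U, hU⟩ hUW,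
      Scheme.Hom.ker_apply, hker, Ideal.map_ofList]⟩

include hi hi' in
/-- Equations near the points of the line over the intermediate subscheme. -/
theorem exists_data (p : CohB1.ProjSpaceOver 1 Y) :
    ∃ (U : (CohB1.ProjSpaceOver 1 X).Opens) (hU : IsAffineOpen U) (_ : P1.toP1 i p ∈ U) (m : ℕ)
      (x : Fin c → Γ(CohB1.ProjSpaceOver 1 X, U)) (y : Fin (m + 1) → Γ(CohB1.ProjSpaceOver 1 X, U)),
      IsWeaklyRegular Γ(CohB1.ProjSpaceOver 1 X, U) (List.ofFn x) ∧
      RingHom.ker ((P1.toP1 i).app U).hom = Ideal.span (Set.range x) ∧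
      IsExact (Fin.append x y) ∧
      (i' ≫ i ≫ P1.sect X 1).ker.ideal ⟨U, hU⟩ = Ideal.span (Set.range (Fin.append x y)) := by
  haveI := isClosedImmersion_toP1 i
  haveI := isClosedImmersion_toP1 (i' ≫ i)
  let tb := CohB1.ProjSpaceOver.toBase 1 X
  have hJ : ∀ (U : (CohB1.ProjSpaceOver 1 X).affineOpens), (i' ≫ i ≫ P1.sect X 1).ker.ideal U =
      (P1.toP1 (i' ≫ i)).ker.ideal U ⊔ (P1.sect X 1).ker.ideal U := fun U => by
    rw [← Category.assoc]; exact centre_ideal (i' ≫ i) 1 U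
  by_cases hp : P1.toP1 i p ∈ Set.range (i' ≫ i ≫ P1.sect X 1)
  · obtain ⟨z, hz⟩ := hp
    obtain ⟨W, hW, hzW, rs, rs', hlen, hrs, hker, hall, hkall⟩ := exists_seq_comp i i' hi hi' z
    have hpW : P1.toP1 i p ∈ tb ⁻¹ᵁ W := by
      rw [← hz]
      show tb ((i' ≫ i ≫ P1.sect X 1) z) ∈ W
      rw [← Scheme.Hom.comp_apply, Category.assoc, Category.assoc, H23.P1Sect.sect_toBase, Category.comp_id]
      exact hzW
    obtain ⟨⟨U₁, hU₁⟩, hpU₁, t₁, -, hT₁⟩ := isEffCartier_sect X 1 (P1.toP1 i p)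
    obtain ⟨U, hU, hpU, hle⟩ := exists_isAffineOpen_mem_and_subset (show P1.toP1 i p ∈ tb ⁻¹ᵁ W ⊓ U₁ from ⟨hpW, hpU₁⟩)
    have hUW : U ≤ tb ⁻¹ᵁ W := (show U ≤ tb ⁻¹ᵁ W ⊓ U₁ from hle).trans inf_le_left
    have h₁ : U ≤ U₁ := (show U ≤ tb ⁻¹ᵁ W ⊓ U₁ from hle).trans inf_le_right
    let τ := AModX.resR h₁ t₁
    have hTU : (P1.sect X 1).ker.ideal ⟨U, hU⟩ = Ideal.span {τ} := by
      rw [← (P1.sect X 1).ker.map_ideal (U := ⟨U, hU⟩) (V := ⟨U₁, hU₁⟩) h₁, hT₁, Ideal.map_span, Set.image_singleton]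
      rfl
    obtain ⟨hx, hxk⟩ := line_seq i hi hW hU hUW hrs hker
    let g := (tb.appLE W U hUW).hom
    have hall' : IsWeaklyRegular Γ(CohB1.ProjSpaceOver 1 X, U) ((rs ++ rs').map g) :=
      isWeaklyRegular_map_flat _ (tb.flat_appLE hW hU hUW) hall
    have hallk : (P1.toP1 (i' ≫ i)).ker.ideal ⟨U, hU⟩ = Ideal.ofList ((rs ++ rs').map g) := by
      rw [TorPull.ker_eq (H23.P1Conn.isPullback_toP1 (i' ≫ i)), ModPairLib.ideal_comap _ _ ⟨W, hW⟩ ⟨U, hU⟩ hUW,
        Scheme.Hom.ker_apply, hkall, Ideal.map_ofList]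
    obtain ⟨x, hxl⟩ := exists_fun_of_list (show (rs.map g).length = c by rw [List.length_map, hlen])
    obtain ⟨y, hyl⟩ := exists_fun_of_list (show (rs'.map g ++ [τ]).length = rs'.length + 1 by simp)
    have hTq : BlowUp.IsEffCartierIdeal ((P1.sect X 1).ker.comap (P1.toP1 (i' ≫ i))) :=
      ker_sect_comap (i' ≫ i) 1 ▸ isEffCartier_sect Z 1
    have hnzd : (P1.toP1 (i' ≫ i)).app U τ ∈ nonZeroDivisors Γ(CohB1.ProjSpaceOver 1 Z, P1.toP1 (i' ≫ i) ⁻¹ᵁ U) := by
      refine ModPairLib.generator_mem_nonZeroDivisors hTq (W := ⟨_, hU.preimage _⟩) ?_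
      rw [ModPairLib.ideal_comap _ _ ⟨U, hU⟩ ⟨_, hU.preimage _⟩ le_rfl, hTU, Ideal.map_span, Set.image_singleton,
        Scheme.Hom.app_eq_appLE]
    have hseq : List.ofFn (Fin.append x y) = (rs ++ rs').map g ++ [τ] := by
      rw [List.ofFn_fin_append, hxl, hyl, List.map_append, List.append_assoc]
    refine ⟨U, hU, hpU, rs'.length, x, y, hxl ▸ hx, ?_, ?_, ?_⟩
    · rw [← Scheme.Hom.ker_apply (P1.toP1 i) ⟨U, hU⟩, hxk, ← ofList_ofFn, hxl]
    · refine KRegLib.isExact_of_isWeaklyRegular _ ?_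
      rw [hseq]
      exact isWeaklyRegular_append_singleton hall' _ ((P1.toP1 (i' ≫ i)).app_surjective U hU)
        ((Scheme.Hom.ker_apply (P1.toP1 (i' ≫ i)) ⟨U, hU⟩).symm.trans hallk) hnzd
    · rw [hJ, hallk, hTU, ← ofList_ofFn, hseq, Ideal.ofList_append, Ideal.ofList_singleton]
  · obtain ⟨⟨W, hW⟩, hpW, -, rs, hlen, hrs, hker⟩ := hi.2 (CohB1.ProjSpaceOver.toBase 1 Y p)
    let O : (CohB1.ProjSpaceOver 1 X).Opens :=
      ⟨(Set.range (i' ≫ i ≫ P1.sect X 1))ᶜ, (i' ≫ i ≫ P1.sect X 1).isClosedEmbedding.isClosed_range.isOpen_compl⟩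
    have hpW' : P1.toP1 i p ∈ tb ⁻¹ᵁ W := by
      show tb (P1.toP1 i p) ∈ W
      rw [← Scheme.Hom.comp_apply, (H23.P1Conn.isPullback_toP1 i).w, Scheme.Hom.comp_apply]
      exact hpW
    obtain ⟨U, hU, hpU, hle⟩ := exists_isAffineOpen_mem_and_subset (show P1.toP1 i p ∈ tb ⁻¹ᵁ W ⊓ O from ⟨hpW', hp⟩)
    have hUW : U ≤ tb ⁻¹ᵁ W := (show U ≤ tb ⁻¹ᵁ W ⊓ O from hle).trans inf_le_left
    obtain ⟨hx, hxk⟩ := line_seq i hi hW hU hUW hrs.toIsWeaklyRegular hker
    obtain ⟨x, hxl⟩ := exists_fun_of_list (show (rs.map (tb.appLE W U hUW).hom).length = c by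
      rw [List.length_map, hlen])
    have htop : (i' ≫ i ≫ P1.sect X 1).ker.ideal ⟨U, hU⟩ = ⊤ :=
      BlowUpX.ideal_eq_top_of_disjoint _ ⟨U, hU⟩ fun v hv hv' => by
        rw [Scheme.Hom.support_ker, (i' ≫ i ≫ P1.sect X 1).isClosedEmbedding.isClosed_range.closure_eq] at hv'
        exact ((show U ≤ tb ⁻¹ᵁ W ⊓ O from hle) hv).2 hv'
    have hkx : RingHom.ker ((P1.toP1 i).app U).hom = Ideal.span (Set.range x) := by
      rw [← Scheme.Hom.ker_apply (P1.toP1 i) ⟨U, hU⟩, hxk, ← ofList_ofFn, hxl]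
    refine ⟨U, hU, hpU, 0, x, fun _ => 1, hxl ▸ hx, hkx, ?_, ?_⟩
    · refine KRegLib.isExact_of_isWeaklyRegular _ ?_
      rw [List.ofFn_fin_append, List.ofFn_succ, List.ofFn_zero]
      exact isWeaklyRegular_append_singleton (hxl ▸ hx) _ ((P1.toP1 i).app_surjective U hU)
        (hkx.trans (ofList_ofFn x).symm) (by rw [map_one]; exact one_mem _)
    · rw [htop, eq_comm, Ideal.eq_top_iff_one]
      exact Ideal.subset_span ⟨Fin.natAdd c 0, by simp⟩

include hi hi' in
/-- The map of deformation spaces is a regular closed immersion. -/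
theorem strict_comp {S M M' : Scheme.{u}} (f : X ⟶ S) [LocallyOfFiniteType f]
    [LocallyOfFinitePresentation (i ≫ f)] [LocallyOfFinitePresentation (i' ≫ i ≫ f)]
    {b' : M' ⟶ CohB1.ProjSpaceOver 1 Y} (hb' : BlowUp.IsBlowUp b' (i' ≫ P1.sect Y 1).ker)
    {b : M ⟶ CohB1.ProjSpaceOver 1 X} (hb : BlowUp.IsBlowUp b (i' ≫ i ≫ P1.sect X 1).ker)
    (j : M' ⟶ M) (hj : j ≫ b = b' ≫ P1.toP1 i) :
    IsClosedImmersion j ∧ RegImm.IsRegularImmersion RegImm.Kind.regular j := by
  haveI := isClosedImmersion_toP1 i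
  haveI : IsProper b' := isProper_def (i ≫ f) i' hb'
  haveI : IsProper b := by
    haveI : LocallyOfFinitePresentation ((i' ≫ i) ≫ f) := by rw [Category.assoc]; infer_instance
    exact isProper_def f (i' ≫ i) (Category.assoc i' i _ ▸ hb)
  have hJq : (i' ≫ i ≫ P1.sect X 1).ker.comap (P1.toP1 i) = (i' ≫ P1.sect Y 1).ker := by
    rw [← sect_toP1, ← Category.assoc]
    exact ker_comp_comap _ _
  rw [← hJq] at hb'
  have hloc : ∀ z : M', ∃ (D : M.Opens), IsAffineOpen D ∧ j z ∈ D ∧ IsClosedImmersion (j ∣_ D) ∧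
      ∃ rs : List Γ(M, D), rs.length = c ∧ IsRegular Γ(M, D) rs ∧ RingHom.ker (j.app D).hom = Ideal.ofList rs := by
    intro z
    obtain ⟨U, hU, hzU, m, x, y, hx, hker, hex, hJ⟩ := exists_data i i' hi hi' (b' z)
    obtain ⟨k, hk⟩ := ExcCharts.cover hb hU (Fin.append x y) hJ (z := j z) (show b (j z) ∈ U by
      rw [← Scheme.Hom.comp_apply, hj]; exact hzU)
    induction k using Fin.addCases with
    | left l =>
      exact absurd hk (notMem_chart hb (P1.toP1 i) hb' j hj hU _ hJ _ (by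
        rw [Fin.append_left]; exact RingHom.mem_ker.1 (hker.ge (Ideal.subset_span ⟨l, rfl⟩))) z)
    | right k =>
      let g : Fin (c + m + 1) → Fin (c + (m + 1)) :=
        Fin.cons (Fin.natAdd c k) (Fin.append (Fin.castAdd (m + 1)) fun l => Fin.natAdd c (k.succAbove l))
      have hg : Function.Injective g := by
        refine Fin.cons_injective_iff.2 ⟨?_, Fin.append_injective_iff.2 ⟨Fin.castAdd_injective _ _,
          (Fin.natAdd_injective _ _).comp Fin.succAbove_right_injective, fun i j h => ?_⟩⟩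
        · rintro ⟨v, hv⟩
          induction v using Fin.addCases with
          | left l =>
            have := congrArg Fin.val hv
            simp at this
            omega
          | right l =>
            rw [Fin.append_right] at hv
            exact Fin.succAbove_ne k l (Fin.natAdd_injective _ _ hv)
        · have := congrArg Fin.val h
          simp at this
          omega
      have hga : (fun v => Fin.append x y (g v)) =
          (Fin.cons (y k) (Fin.append x fun l => y (k.succAbove l)) : Fin (c + m + 1) → _) := funext fun v => by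
        induction v using Fin.cases with
        | zero => simp [g]
        | succ v => induction v using Fin.addCases <;> simp [g]
      have hex' : IsExact (Fin.cons (y k) (Fin.append x fun l => y (k.succAbove l)) : Fin (c + m + 1) → _) :=
        hga ▸ isExact_reindex hex g hg (by omega)
      have hgs : Function.Surjective g :=
        ((Fintype.bijective_iff_injective_and_card g).2 ⟨hg, by simp; omega⟩).2
      have hJ' : (i' ≫ i ≫ P1.sect X 1).ker.ideal ⟨U, hU⟩ = Ideal.span (Set.range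
          (Fin.cons (y k) (Fin.append x fun l => y (k.succAbove l)) : Fin (c + m + 1) → _)) := by
        rw [hJ, ← hga]
        exact congrArg Ideal.span (hgs.range_comp _).symm
      refine strict_chart hb (P1.toP1 i) hb' j hj hU (y k) x (fun l => y (k.succAbove l)) hx hker hex' hJ' z ?_
      refine ExcCharts.mem_D hb hU _ hJ' 0 (ExcCharts.D_affine hb hU _ hJ _) (ExcCharts.D_le hb hU _ hJ _) ?_ hk
      rw [ExcCharts.ideal_D hb hU _ hJ, Fin.append_right, Fin.cons_zero]
  choose D hD hzD hcl rs hlen hreg hk using hloc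
  have hjc : IsClosedImmersion j := by
    haveI : UniversallyClosed (j ≫ b) := by rw [hj]; infer_instance
    haveI : UniversallyClosed j := UniversallyClosed.of_comp_of_isSeparated j b
    let O : M.Opens := ⟨(Set.range j)ᶜ, (j.isClosedMap.isClosed_range).isOpen_compl⟩
    refine IsZariskiLocalAtTarget.of_iSup_eq_top (P := @IsClosedImmersion)
      (fun o : Option M' => o.elim O D) (top_le_iff.1 fun w _ => Opens.mem_iSup.2 ?_) ?_
    · by_cases hw : w ∈ Set.range j
      · obtain ⟨z, rfl⟩ := hw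
        exact ⟨some z, hzD z⟩
      · exact ⟨none, hw⟩
    · rintro (_ | z)
      · haveI : IsEmpty ↥((j ⁻¹ᵁ O).toScheme) := ⟨fun ⟨v, hv⟩ => hv ⟨v, rfl⟩⟩
        show IsClosedImmersion (j ∣_ O)
        infer_instance
      · exact hcl z
  exact ⟨hjc, inferInstance, fun z => ⟨⟨D z, hD z⟩, hzD z, hcl z, rs z, hreg z, hk z⟩⟩

end Groth.Agent.H28.DefRel

end
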