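import Groth.Agent.H28.DefRel.ChartSeq
import Groth.Agent.H28.LiftReg
import Mathlib.RingTheory.Regular.Flat

/-!
# Strict transforms of regular immersions in a blowing up, over an arbitrary base
-/

set_option autoImplicit false
set_option linter.style.haveILetI false
set_option linter.unusedSectionVars false
set_option backward.isDefEq.respectTransparency false
set_option backward.isDefEq.respectTransparency.types false
set_option maxHeartbeats 1000000

universe u

open CategoryTheory CategoryTheory.Limits AlgebraicGeometry TopologicalSpace Opposite MvPolynomial RingTheory.Sequence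

noncomputable section

namespace Groth.Agent.H28.DefRel

open Groth.Agent Groth.Agent.AModX Groth.Agent.WiebeLib

/-- Weak regularity along a flat ring map. -/
theorem isWeaklyRegular_map_flat {A A' : Type u} [CommRing A] [CommRing A'] (φ : A →+* A') (hφ : φ.Flat)
    {rs : List A} (h : IsWeaklyRegular A rs) : IsWeaklyRegular A' (rs.map φ) := by
  letI := φ.toAlgebra
  haveI : Module.Flat A A' := hφ
  exact h.of_flat

/-- Weak regularity along a ring isomorphism. -/
theorem isWeaklyRegular_map_equiv {A A' : Type u} [CommRing A] [CommRing A'] (e : A ≃+* A') {rs : List A}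
    (h : IsWeaklyRegular A rs) : IsWeaklyRegular A' (rs.map e) :=
  (AddEquiv.isWeaklyRegular_congr (e := e.toAddEquiv) (List.forall₂_map_right_iff.mpr
    (List.forall₂_same.mpr fun r _ x => map_mul e r x))).1 h

/-- A weakly regular sequence with proper ideal is regular. -/
theorem isRegular_of_proper {A : Type u} [CommRing A] {rs : List A} (h : IsWeaklyRegular A rs)
    (hne : Ideal.ofList rs ≠ ⊤) : IsRegular A rs := by
  refine ⟨h, fun he => hne ?_⟩
  rw [smul_eq_mul, Ideal.mul_top] at he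
  exact he.symm

/-- The kernel on the sections is proper at a point of the source. -/
theorem ker_app_ne_top {P B : Scheme.{u}} (q : P ⟶ B) {U : B.Opens} {z : P} (hz : q z ∈ U) :
    RingHom.ker (q.app U).hom ≠ ⊤ := by
  haveI : Nonempty ↥(q ⁻¹ᵁ U) := ⟨⟨z, hz⟩⟩
  exact RingHom.ker_ne_top _

/-- Regular immersions of given codimension are stable under flat base change. -/
theorem regularOfCodim_flatBC {X Y X' Y' : Scheme.{u}} {i : Y ⟶ X} {g : X' ⟶ X} {i' : Y' ⟶ X'} {g' : Y' ⟶ Y}
    [Flat g] [IsClosedImmersion i] (hsq : IsPullback g' i' i g) {c : ℕ}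
    (hi : RegImm.IsRegularImmersionOfCodim RegImm.Kind.regular c i) :
    RegImm.IsRegularImmersionOfCodim RegImm.Kind.regular c i' := by
  haveI : IsClosedImmersion i' := MorphismProperty.of_isPullback (P := @IsClosedImmersion) hsq ‹_›
  refine ⟨inferInstance, fun z => ?_⟩
  obtain ⟨U, hzU, -, rs, hlen, hrs, hker⟩ := hi.2 (g' z)
  obtain ⟨V, hV, hzV, hVU⟩ := exists_isAffineOpen_mem_and_subset (show i' z ∈ g ⁻¹ᵁ U.1 by
    show g (i' z) ∈ U.1
    rwa [← Scheme.Hom.comp_apply, ← hsq.w, Scheme.Hom.comp_apply])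
  have hk : RingHom.ker (i'.app V).hom = Ideal.ofList (rs.map (g.appLE U.1 V hVU).hom) := by
    rw [← Scheme.Hom.ker_apply i' ⟨V, hV⟩, TorPull.ker_eq hsq.flip, ModPairLib.ideal_comap _ g U ⟨V, hV⟩ hVU,
      Scheme.Hom.ker_apply, hker, Ideal.map_ofList]
  refine ⟨⟨V, hV⟩, hzV, IsZariskiLocalAtTarget.restrict ‹IsClosedImmersion i'› V, _, ?_, ?_, hk⟩
  · rw [List.length_map, hlen]
  · refine isRegular_of_proper (isWeaklyRegular_map_flat _ ?_ hrs.toIsWeaklyRegular) ?_
    · exact g.flat_appLE U.2 hV hVU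
    · rw [← hk]
      exact ker_app_ne_top i' hzV

/-- A regular sequence followed by a regular element of the quotient. -/
theorem isWeaklyRegular_append_singleton {A C : Type u} [CommRing A] [CommRing C] {rs : List A}
    (h : IsWeaklyRegular A rs) (φ : A →+* C) (hsurj : Function.Surjective φ)
    (hker : RingHom.ker φ = Ideal.ofList rs) {τ : A} (hτ : φ τ ∈ nonZeroDivisors C) :
    IsWeaklyRegular A (rs ++ [τ]) := by
  rw [isWeaklyRegular_append_iff, isWeaklyRegular_singleton_iff]
  refine ⟨h, ?_⟩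
  intro x y hxy
  obtain ⟨x, rfl⟩ := Submodule.Quotient.mk_surjective _ x
  obtain ⟨y, rfl⟩ := Submodule.Quotient.mk_surjective _ y
  have hxy' : Submodule.Quotient.mk (τ * x) = (Submodule.Quotient.mk (τ * y) :
      A ⧸ (Ideal.ofList rs • ⊤ : Submodule A A)) := hxy
  rw [Submodule.Quotient.eq, smul_eq_mul, Ideal.mul_top, ← hker, RingHom.mem_ker, ← mul_sub, map_mul] at hxy'
  rw [Submodule.Quotient.eq, smul_eq_mul, Ideal.mul_top, ← hker, RingHom.mem_ker]
  exact mem_nonZeroDivisors_iff_right.1 hτ _ (by rw [mul_comm]; exact hxy')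

set_option maxHeartbeats 4000000 in
/-- The strict transform of a regular immersion, meeting the centre in an effective Cartier divisor, is a regular
immersion of the same codimension. -/
theorem isRegular_strict {B M P : Scheme.{u}} {J : B.IdealSheafData} {b : M ⟶ B} (hb : BlowUp.IsBlowUp b J)
    (q : P ⟶ B) [IsClosedImmersion q] {c : ℕ} (hq : RegImm.IsRegularImmersionOfCodim RegImm.Kind.regular c q)
    (T : B.IdealSheafData) (hT : BlowUp.IsEffCartierIdeal T) (hTq : BlowUp.IsEffCartierIdeal (T.comap q))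
    (hJ : ∀ U : B.affineOpens, J.ideal U = q.ker.ideal U ⊔ T.ideal U)
    (F : P ⟶ M) (hF : F ≫ b = q) [IsClosedImmersion F] :
    RegImm.IsRegularImmersionOfCodim RegImm.Kind.regular c F := by
  refine ⟨inferInstance, fun z => ?_⟩
  obtain ⟨⟨U₀, hU₀⟩, hzU₀, -, rs, hlen, hrs, hker₀⟩ := hq.2 z
  obtain ⟨⟨U₁, hU₁⟩, hzU₁, t₁, -, hT₁⟩ := hT (q z)
  obtain ⟨U, hU, hzU, hle⟩ := exists_isAffineOpen_mem_and_subset (show q z ∈ U₀ ⊓ U₁ from ⟨hzU₀, hzU₁⟩)
  have h₀ : U ≤ U₀ := (show U ≤ U₀ ⊓ U₁ from hle).trans inf_le_left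
  have h₁ : U ≤ U₁ := (show U ≤ U₀ ⊓ U₁ from hle).trans inf_le_right
  subst hlen
  let a' : Fin rs.length → Γ(B, U) := fun l => resR h₀ (rs.get l)
  let t : Γ(B, U) := resR h₁ t₁
  have hI : q.ker.ideal ⟨U, hU⟩ = Ideal.span (Set.range a') := by
    rw [← q.ker.map_ideal (U := ⟨U, hU⟩) (V := ⟨U₀, hU₀⟩) h₀, Scheme.Hom.ker_apply, hker₀,
      show Ideal.ofList rs = Ideal.span (Set.range rs.get) from congrArg Ideal.span (Set.range_list_get rs).symm,
      Ideal.map_span, ← Set.range_comp]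
    rfl
  have hTU : T.ideal ⟨U, hU⟩ = Ideal.span {t} := by
    rw [← T.map_ideal (U := ⟨U, hU⟩) (V := ⟨U₁, hU₁⟩) h₁, hT₁, Ideal.map_span, Set.image_singleton]
    rfl
  have hres : (B.presheaf.map (homOfLE h₀).op).hom.Flat := by
    have hid : U ≤ (𝟙 B : B ⟶ B) ⁻¹ᵁ U₀ := h₀
    have h2 := (𝟙 B : B ⟶ B).flat_appLE hU₀ hU hid
    rwa [show (𝟙 B : B ⟶ B).appLE U₀ U hid = B.presheaf.map (homOfLE h₀).op by simp [Scheme.Hom.appLE]] at h2
  have hofn : List.ofFn a' = rs.map (B.presheaf.map (homOfLE h₀).op).hom := by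
    conv_rhs => rw [← List.ofFn_get rs, List.map_ofFn]
    rfl
  have hwr : IsWeaklyRegular Γ(B, U) (List.ofFn a') :=
    hofn.symm ▸ isWeaklyRegular_map_flat _ hres hrs.toIsWeaklyRegular
  let a : Fin (rs.length + 1) → Γ(B, U) := Fin.cons t a'
  have hJU : J.ideal ⟨U, hU⟩ = Ideal.span (Set.range a) := by
    rw [hJ, hI, hTU, Fin.range_cons, Ideal.span_insert, sup_comm]
  have hqsurj : Function.Surjective (q.app U).hom := q.app_surjective U hU
  have hker : RingHom.ker (q.app U).hom = Ideal.span (Set.range a') := (Scheme.Hom.ker_apply q ⟨U, hU⟩).symm.trans hI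
  have hofl : Ideal.ofList (List.ofFn a') = Ideal.span (Set.range a') :=
    congrArg Ideal.span (Set.ext fun x => by simp [List.mem_ofFn, Set.mem_range])
  have hnzd : q.app U t ∈ nonZeroDivisors Γ(P, q ⁻¹ᵁ U) := by
    refine ModPairLib.generator_mem_nonZeroDivisors hTq (W := ⟨_, hU.preimage q⟩) ?_
    rw [ModPairLib.ideal_comap T q ⟨U, hU⟩ ⟨_, hU.preimage q⟩ le_rfl, hTU, Ideal.map_span, Set.image_singleton,
      Scheme.Hom.app_eq_appLE]
  have happ : IsWeaklyRegular Γ(B, U) (List.ofFn a' ++ [t]) :=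
    isWeaklyRegular_append_singleton hwr _ hqsurj (hker.trans hofl.symm) hnzd
  have hex : IsExact a := isExact_cons_of_append happ
  let D := ExcCharts.D hb hU a hJU 0
  have hD : IsAffineOpen D := ExcCharts.D_affine hb hU a hJU 0
  have hDb : D ≤ b ⁻¹ᵁ U := ExcCharts.D_le hb hU a hJU 0
  have hsub : q ⁻¹ᵁ U ≤ F ⁻¹ᵁ D := by
    intro w hw
    obtain ⟨k, hk⟩ := ExcCharts.cover hb hU a hJU (z := F w) (show b (F w) ∈ U by
      rw [← Scheme.Hom.comp_apply, hF]; exact hw)
    induction k using Fin.cases with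
    | zero => exact hk
    | succ l =>
      exfalso
      let Dl := ExcCharts.D hb hU a hJU l.succ
      obtain ⟨W, hW, hwW, hWD⟩ := exists_isAffineOpen_mem_and_subset (show w ∈ F ⁻¹ᵁ Dl ⊓ q ⁻¹ᵁ U from ⟨hk, hw⟩)
      have hWl : W ≤ F ⁻¹ᵁ Dl := (show W ≤ F ⁻¹ᵁ Dl ⊓ q ⁻¹ᵁ U from hWD).trans inf_le_left
      have hWU : W ≤ q ⁻¹ᵁ U := (show W ≤ F ⁻¹ᵁ Dl ⊓ q ⁻¹ᵁ U from hWD).trans inf_le_right
      have ha0 : q.appLE U W hWU (a' l) = 0 := by
        have : a' l ∈ RingHom.ker (q.app U).hom := hker ▸ Ideal.subset_span ⟨l, rfl⟩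
        show P.presheaf.map (homOfLE hWU).op (q.app U (a' l)) = 0
        rw [show q.app U (a' l) = 0 from this, map_zero]
      have e1 : ((J.comap b).comap F).ideal ⟨W, hW⟩ = ⊥ := by
        rw [ModPairLib.ideal_comap _ F ⟨Dl, ExcCharts.D_affine hb hU a hJU l.succ⟩ ⟨W, hW⟩ hWl,
          ExcCharts.ideal_D hb hU a hJU l.succ, Ideal.map_span, Set.image_singleton, Ideal.span_singleton_eq_bot]
        refine (PBlow.comp_appLE_apply F b U Dl W (ExcCharts.D_le hb hU a hJU l.succ) hWl hF (by exact hWU) _).trans ?_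
        exact ha0
      have e2 : ((J.comap b).comap F).ideal ⟨W, hW⟩ = Ideal.span {q.appLE U W hWU t} := by
        rw [← Scheme.IdealSheafData.comap_comp, hF, ModPairLib.ideal_comap J q ⟨U, hU⟩ ⟨W, hW⟩ hWU, hJU,
          Ideal.map_span, ← Set.range_comp]
        refine le_antisymm (Ideal.span_le.2 ?_) ((Ideal.span_singleton_le_iff_mem _).2 (Ideal.subset_span ⟨0, rfl⟩))
        rintro _ ⟨k, rfl⟩
        induction k using Fin.cases with
        | zero => exact Ideal.subset_span rfl
        | succ l' =>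
          have hmem : a' l' ∈ RingHom.ker (q.app U).hom := hker ▸ Ideal.subset_span ⟨l', rfl⟩
          show q.appLE U W hWU (a' l') ∈ _
          rw [show q.appLE U W hWU (a' l') = P.presheaf.map (homOfLE hWU).op (q.app U (a' l')) from rfl,
            show q.app U (a' l') = 0 from hmem, map_zero]
          exact zero_mem _
      have hnz : q.appLE U W hWU t ∈ nonZeroDivisors Γ(P, W) := by
        refine ModPairLib.generator_mem_nonZeroDivisors hTq (W := ⟨W, hW⟩) ?_
        rw [ModPairLib.ideal_comap T q ⟨U, hU⟩ ⟨W, hW⟩ hWU, hTU, Ideal.map_span, Set.image_singleton]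
      rw [e1] at e2
      have ht0 : q.appLE U W hWU t = 0 := Ideal.span_singleton_eq_bot.1 e2.symm
      haveI : Nonempty W := ⟨⟨w, hwW⟩⟩
      rw [ht0] at hnz
      exact zero_notMem_nonZeroDivisors hnz
  have hFD : F ⁻¹ᵁ D = q ⁻¹ᵁ U := le_antisymm (fun w hw => by
    show q w ∈ U
    rw [← hF, Scheme.Hom.comp_apply]
    exact hDb hw) hsub
  let φ : RegBlow6.chartAlg a 0 →+* Γ(P, q ⁻¹ᵁ U) :=
    (F.appLE D (q ⁻¹ᵁ U) hsub).hom.comp (ExcCharts.eqv hb hU a hJU 0).toRingHom
  have hφ : ∀ x, φ (algebraMap Γ(B, U) _ x) = (q.app U).hom x := fun x => by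
    show F.appLE D (q ⁻¹ᵁ U) hsub (ExcCharts.eqv hb hU a hJU 0 (algebraMap _ _ x)) = _
    rw [ExcCharts.eqv_algebraMap]
    refine (PBlow.comp_appLE_apply F b U D (q ⁻¹ᵁ U) hDb hsub hF le_rfl x).trans ?_
    rw [Scheme.Hom.app_eq_appLE]
  have hX : ∀ l, φ (uu t a' l) = 0 := fun l => by
    have h0 : φ (uu t a' l) * (q.app U).hom t = 0 := by
      rw [← hφ, ← map_mul, uu_mul, hφ]
      exact (hker ▸ Ideal.subset_span ⟨l, rfl⟩ : a' l ∈ RingHom.ker (q.app U).hom)
    exact mem_nonZeroDivisors_iff_right.1 hnzd _ h0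
  let e := ExcCharts.eqv hb hU a hJU 0
  have hk := LiftReg.coords_ker t a' hex (q.app U).hom hker φ hφ hX
  have hinj : RingHom.ker (F.appLE D (q ⁻¹ᵁ U) hsub).hom = RingHom.ker (F.app D).hom := by
    show RingHom.ker ((P.presheaf.map (homOfLE hsub).op).hom.comp (F.app D).hom) = _
    refine RingHom.ker_comp_of_injective _ ?_
    haveI : IsIso (P.presheaf.map (homOfLE hsub).op) := by
      rw [Subsingleton.elim (homOfLE hsub) (eqToHom hFD.symm)]
      infer_instance
    exact (ConcreteCategory.bijective_of_isIso _).1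
  have hkD : RingHom.ker (F.app D).hom = Ideal.ofList ((List.ofFn fun l => uu t a' l).map e) := by
    rw [← hinj, show Ideal.ofList ((List.ofFn fun l => uu t a' l).map e) =
        (Ideal.ofList (List.ofFn fun l => uu t a' l)).map e.toRingHom from (Ideal.map_ofList e.toRingHom _).symm, show Ideal.ofList (List.ofFn fun l => uu t a' l) = RingHom.ker φ by
      rw [hk]; exact congrArg Ideal.span (Set.ext fun x => by simp [List.mem_ofFn, Set.mem_range])]
    refine Ideal.ext fun y => ?_
    obtain ⟨x, rfl⟩ := e.surjective y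
    constructor
    · exact fun hy => Ideal.mem_map_of_mem e.toRingHom (RingHom.mem_ker.2 hy : x ∈ RingHom.ker φ)
    · intro hy
      obtain ⟨x', hx', hxx⟩ := (Ideal.mem_map_iff_of_surjective e.toRingHom e.surjective).1 hy
      rw [← e.injective hxx]
      exact hx'
  refine ⟨⟨D, hD⟩, hsub (show q z ∈ U from hzU), IsZariskiLocalAtTarget.restrict ‹IsClosedImmersion F› D,
    (List.ofFn fun l => uu t a' l).map e, ?_, ?_, hkD⟩
  · rw [List.length_map, List.length_ofFn]
  · refine isRegular_of_proper (isWeaklyRegular_map_equiv e (isWeaklyRegular_coords t a' happ)) ?_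
    rw [← hkD]
    exact ker_app_ne_top F (hsub (show q z ∈ U from hzU))

end Groth.Agent.H28.DefRel

end
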