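import Groth.Agent.H28.DefRel.ChartMap
import Groth.Agent.H28.DefRel.StrictReg

/-!
# Strict transforms of blowings up in a subcentre
-/

set_option autoImplicit false
set_option linter.style.haveILetI false
set_option linter.unusedSectionVars false
set_option backward.isDefEq.respectTransparency false
set_option backward.isDefEq.respectTransparency.types false
set_option maxHeartbeats 4000000

universe u

open CategoryTheory CategoryTheory.Limits AlgebraicGeometry TopologicalSpace Opposite MvPolynomial RingTheory.Sequence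

noncomputable section

namespace Groth.Agent.H28.DefRel

open Groth.Agent Groth.Agent.AModX Groth.Agent.WiebeLib

/-- An affine piece with surjective functions is a closed immersion. -/
theorem isClosedImmersion_restrict_of_surjective {X Y : Scheme.{u}} (F : X ⟶ Y) {D : Y.Opens} (hD : IsAffineOpen D)
    (hFD : IsAffineOpen (F ⁻¹ᵁ D)) (h : Function.Surjective (F.app D).hom) : IsClosedImmersion (F ∣_ D) := by
  haveI : IsAffine D.toScheme := hD
  haveI : IsAffine (F ⁻¹ᵁ D).toScheme := hFD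
  refine IsClosedImmersion.of_surjective_of_isAffine _ ?_
  rw [show (F ∣_ D).appTop = (F ∣_ D).app ⊤ from rfl, morphismRestrict_app]
  have key : ∀ (E : Y.Opens), E = D → Function.Surjective (F.app E).hom := by
    rintro E rfl; exact h
  show Function.Surjective ((X.presheaf.map (eqToHom _).op).hom.comp (F.app (D.ι ''ᵁ ⊤)).hom)
  rw [RingHom.coe_comp]
  exact (ConcreteCategory.bijective_of_isIso _).2.comp (key _ D.ι_image_top)

variable {B P M M' : Scheme.{u}} {J : B.IdealSheafData} {b : M ⟶ B} (hb : BlowUp.IsBlowUp b J)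
  (q : P ⟶ B) [IsClosedImmersion q] {b' : M' ⟶ P} (hb' : BlowUp.IsBlowUp b' (J.comap q))
  (F : M' ⟶ M) (hF : F ≫ b = b' ≫ q)

include hb' hF in
/-- The strict transform misses the charts of the equations of the ambient subscheme. -/
theorem notMem_chart {U : B.Opens} (hU : IsAffineOpen U) {n : ℕ} (a : Fin n → Γ(B, U))
    (hJ : J.ideal ⟨U, hU⟩ = Ideal.span (Set.range a)) (l : Fin n) (hl : q.app U (a l) = 0) (w : M') :
    F w ∉ ExcCharts.D hb hU a hJ l := by
  intro hw
  obtain ⟨W₀, hw₀, g, hg, hW₀⟩ := hb'.1 w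
  let Dl := ExcCharts.D hb hU a hJ l
  obtain ⟨W, hW, hwW, hle⟩ := exists_isAffineOpen_mem_and_subset (show w ∈ F ⁻¹ᵁ Dl ⊓ W₀.1 from ⟨hw, hw₀⟩)
  have hWl : W ≤ F ⁻¹ᵁ Dl := (show W ≤ F ⁻¹ᵁ Dl ⊓ W₀.1 from hle).trans inf_le_left
  have hWW : W ≤ W₀.1 := (show W ≤ F ⁻¹ᵁ Dl ⊓ W₀.1 from hle).trans inf_le_right
  have hWU : W ≤ (b' ≫ q) ⁻¹ᵁ U := by
    rw [← hF]
    exact hWl.trans (Scheme.Hom.preimage_mono F (ExcCharts.D_le hb hU a hJ l))
  have hWU' : W ≤ b' ⁻¹ᵁ (q ⁻¹ᵁ U) := hWU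
  have e1 : ((J.comap q).comap b').ideal ⟨W, hW⟩ = ⊥ := by
    rw [← Scheme.IdealSheafData.comap_comp, ← hF, Scheme.IdealSheafData.comap_comp,
      ModPairLib.ideal_comap _ F ⟨Dl, ExcCharts.D_affine hb hU a hJ l⟩ ⟨W, hW⟩ hWl,
      ExcCharts.ideal_D hb hU a hJ l, Ideal.map_span, Set.image_singleton, Ideal.span_singleton_eq_bot]
    refine (PBlow.comp_appLE_apply F b U Dl W (ExcCharts.D_le hb hU a hJ l) hWl hF hWU _).trans ?_
    rw [← PBlow.comp_appLE_apply b' q U (q ⁻¹ᵁ U) W le_rfl hWU' rfl hWU,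
      show q.appLE U (q ⁻¹ᵁ U) le_rfl (a l) = 0 by rw [← Scheme.Hom.app_eq_appLE]; exact hl, map_zero]
  have h0 : (0 : Γ(M', W)) ∈ nonZeroDivisors Γ(M', W) :=
    ModPairLib.generator_mem_nonZeroDivisors hb'.1 (W := ⟨W, hW⟩) (by rw [e1, Ideal.span_singleton_eq_bot.2 rfl])
  haveI : Nonempty W := ⟨⟨w, hwW⟩⟩
  exact zero_notMem_nonZeroDivisors h0

include hb' hF in
/-- The strict transform over a chart of an equation of the centre. -/
theorem strict_chart {U : B.Opens} (hU : IsAffineOpen U) {c m : ℕ} (τ : Γ(B, U)) (x : Fin c → Γ(B, U))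
    (y : Fin m → Γ(B, U)) (hx : IsWeaklyRegular Γ(B, U) (List.ofFn x))
    (hker : RingHom.ker (q.app U).hom = Ideal.span (Set.range x))
    (hex : IsExact (Fin.cons τ (Fin.append x y) : Fin (c + m + 1) → Γ(B, U)))
    (hJ : J.ideal ⟨U, hU⟩ = Ideal.span (Set.range (Fin.cons τ (Fin.append x y) : Fin (c + m + 1) → Γ(B, U))))
    (z : M') (hz : F z ∈ ExcCharts.D hb hU (Fin.cons τ (Fin.append x y)) hJ 0) :
    ∃ (D : M.Opens), IsAffineOpen D ∧ F z ∈ D ∧ IsClosedImmersion (F ∣_ D) ∧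
      ∃ rs : List Γ(M, D), rs.length = c ∧ IsRegular Γ(M, D) rs ∧ RingHom.ker (F.app D).hom = Ideal.ofList rs := by
  let a₁ : Fin (c + m) → Γ(B, U) := Fin.append x y
  let a : Fin (c + m + 1) → Γ(B, U) := Fin.cons τ a₁
  let qh := (q.app U).hom
  have hqsurj : Function.Surjective qh := q.app_surjective U hU
  let a'' : Fin (m + 1) → Γ(P, q ⁻¹ᵁ U) := Fin.cons (qh τ) fun l => qh (a₁ (Fin.natAdd c l))
  have hqx : ∀ l, qh (x l) = 0 := fun l => RingHom.mem_ker.1 (hker.ge (Ideal.subset_span ⟨l, rfl⟩))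
  have hU' : IsAffineOpen (q ⁻¹ᵁ U) := hU.preimage q
  have hJ' : (J.comap q).ideal ⟨q ⁻¹ᵁ U, hU'⟩ = Ideal.span (Set.range a'') := by
    rw [ModPairLib.ideal_comap J q ⟨U, hU⟩ ⟨_, hU'⟩ le_rfl, hJ, ← Scheme.Hom.app_eq_appLE, Ideal.map_span,
      ← Set.range_comp]
    refine le_antisymm (Ideal.span_le.2 ?_) (Ideal.span_le.2 ?_)
    · rintro _ ⟨k, rfl⟩
      induction k using Fin.cases with
      | zero => exact Ideal.subset_span ⟨0, by simp [a'', qh]⟩
      | succ k =>
        induction k using Fin.addCases with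
        | left l =>
          simp only [Function.comp_apply, Fin.cons_succ, Fin.append_left]
          rw [show (q.app U).hom (x l) = 0 from hqx l]
          exact zero_mem _
        | right l => exact Ideal.subset_span ⟨l.succ, by simp [a'', a₁, qh]⟩
    · rintro _ ⟨k, rfl⟩
      induction k using Fin.cases with
      | zero => exact Ideal.subset_span ⟨0, by simp [a'', qh]⟩
      | succ l => exact Ideal.subset_span ⟨(Fin.natAdd c l).succ, by simp [a'', a₁, qh]⟩
  let D := ExcCharts.D hb hU a hJ 0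
  let D' := ExcCharts.D hb' hU' a'' hJ' 0
  have hD : IsAffineOpen D := ExcCharts.D_affine hb hU a hJ 0
  have hD' : IsAffineOpen D' := ExcCharts.D_affine hb' hU' a'' hJ' 0
  have hDb : D ≤ b ⁻¹ᵁ U := ExcCharts.D_le hb hU a hJ 0
  have hD'b : D' ≤ b' ⁻¹ᵁ (q ⁻¹ᵁ U) := ExcCharts.D_le hb' hU' a'' hJ' 0
  have hval : ∀ (W : M'.Opens) (E : M.Opens) (hE : E ≤ b ⁻¹ᵁ U) (hWE : W ≤ F ⁻¹ᵁ E) (hWU : W ≤ b' ⁻¹ᵁ (q ⁻¹ᵁ U))
      (s : Γ(B, U)), F.appLE E W hWE (b.appLE U E hE s) = b'.appLE (q ⁻¹ᵁ U) W hWU (qh s) := by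
    intro W E hE hWE hWU s
    rw [PBlow.comp_appLE_apply F b U E W hE hWE hF (show W ≤ (b' ≫ q) ⁻¹ᵁ U from hWU),
      ← PBlow.comp_appLE_apply b' q U (q ⁻¹ᵁ U) W le_rfl hWU rfl (show W ≤ (b' ≫ q) ⁻¹ᵁ U from hWU),
      ← Scheme.Hom.app_eq_appLE]
  have hpre : (b' ⁻¹ᵁ (q ⁻¹ᵁ U)) = F ⁻¹ᵁ (b ⁻¹ᵁ U) := by
    rw [← Scheme.Hom.comp_preimage, ← Scheme.Hom.comp_preimage, hF]
  have hFD : F ⁻¹ᵁ D = D' := by
    refine le_antisymm (fun w hw => ?_) (fun w hw => ?_)
    · have hwU : w ∈ b' ⁻¹ᵁ (q ⁻¹ᵁ U) := hpre.ge (hDb hw)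
      obtain ⟨W, hW, hwW, hle⟩ :=
        exists_isAffineOpen_mem_and_subset (show w ∈ F ⁻¹ᵁ D ⊓ b' ⁻¹ᵁ (q ⁻¹ᵁ U) from ⟨hw, hwU⟩)
      have hWD : W ≤ F ⁻¹ᵁ D := (show W ≤ F ⁻¹ᵁ D ⊓ b' ⁻¹ᵁ (q ⁻¹ᵁ U) from hle).trans inf_le_left
      have hWU : W ≤ b' ⁻¹ᵁ (q ⁻¹ᵁ U) := (show W ≤ F ⁻¹ᵁ D ⊓ b' ⁻¹ᵁ (q ⁻¹ᵁ U) from hle).trans inf_le_right
      refine ExcCharts.mem_D hb' hU' a'' hJ' 0 hW hWU ?_ hwW
      rw [← Scheme.IdealSheafData.comap_comp, ← hF, Scheme.IdealSheafData.comap_comp,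
        ModPairLib.ideal_comap _ F ⟨D, hD⟩ ⟨W, hW⟩ hWD, ExcCharts.ideal_D hb hU a hJ 0, Ideal.map_span,
        Set.image_singleton]
      exact congrArg (fun v => Ideal.span {v}) (hval W D hDb hWD hWU (a 0))
    · obtain ⟨k, hk⟩ := ExcCharts.cover hb hU a hJ (z := F w) (hpre.le (hD'b hw))
      induction k using Fin.cases with
      | zero => exact hk
      | succ l =>
        induction l using Fin.addCases with
        | left l =>
          exact absurd hk (notMem_chart hb q hb' F hF hU a hJ (Fin.castAdd m l).succ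
            (by simpa [a, a₁, qh] using hqx l) w)
        | right l =>
          let k : Fin (c + m + 1) := (Fin.natAdd c l).succ
          obtain ⟨l₀, hl₀⟩ := Fin.exists_succAbove_eq (show (0 : Fin (c + m + 1)) ≠ k from (Fin.succ_ne_zero _).symm)
          let Dl := ExcCharts.D hb hU a hJ k
          let v := ExcCharts.cc hb hU a hJ k l₀
          let r := b.appLE U Dl (ExcCharts.D_le hb hU a hJ k) (a k)
          obtain ⟨W, hW, hwW, hle⟩ := exists_isAffineOpen_mem_and_subset (show w ∈ D' ⊓ F ⁻¹ᵁ Dl from ⟨hw, hk⟩)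
          have hWD' : W ≤ D' := (show W ≤ D' ⊓ F ⁻¹ᵁ Dl from hle).trans inf_le_left
          have hWl : W ≤ F ⁻¹ᵁ Dl := (show W ≤ D' ⊓ F ⁻¹ᵁ Dl from hle).trans inf_le_right
          have hWU : W ≤ b' ⁻¹ᵁ (q ⁻¹ᵁ U) := hWD'.trans hD'b
          let t := b'.appLE (q ⁻¹ᵁ U) W hWU (qh (a 0))
          have hti : ((J.comap q).comap b').ideal ⟨W, hW⟩ = Ideal.span {t} := by
            rw [← ((J.comap q).comap b').map_ideal (U := ⟨W, hW⟩) (V := ⟨D', hD'⟩) hWD',
              ExcCharts.ideal_D hb' hU' a'' hJ' 0, Ideal.map_span, Set.image_singleton]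
            refine congrArg (fun v => Ideal.span {v}) ?_
            exact ConcreteCategory.congr_hom (Scheme.Hom.appLE_map b' hD'b (homOfLE hWD').op) (a'' 0)
          have htn : t ∈ nonZeroDivisors Γ(M', W) :=
            ModPairLib.generator_mem_nonZeroDivisors hb'.1 (W := ⟨W, hW⟩) hti
          have hmem : F.appLE Dl W hWl r ∈ Ideal.span {t} := by
            rw [← hti, ← Scheme.IdealSheafData.comap_comp, ← hF, Scheme.IdealSheafData.comap_comp,
              ModPairLib.ideal_comap _ F ⟨Dl, ExcCharts.D_affine hb hU a hJ k⟩ ⟨W, hW⟩ hWl,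
              ExcCharts.ideal_D hb hU a hJ k]
            exact Ideal.mem_map_of_mem _ (Ideal.mem_span_singleton_self r)
          obtain ⟨u, hu⟩ := Ideal.mem_span_singleton'.1 hmem
          have hcc : F.appLE Dl W hWl v * F.appLE Dl W hWl r = t := by
            rw [← map_mul, show v * r = b.appLE U Dl (ExcCharts.D_le hb hU a hJ k) (a 0) by
              rw [ExcCharts.cc_mul, hl₀]]
            exact hval W Dl _ hWl hWU (a 0)
          have hone : F.appLE Dl W hWl v * u = 1 := by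
            refine (mul_cancel_right_mem_nonZeroDivisors htn).1 ?_
            rw [one_mul, mul_assoc, hu]
            exact hcc
          have hunit : IsUnit (F.appLE Dl W hWl v) := IsUnit.of_mul_eq_one _ hone
          have h1 := Scheme.basicOpen_appLE F W Dl hWl v
          rw [Scheme.basicOpen_of_isUnit _ hunit] at h1
          have h2 : F w ∈ M.basicOpen v := (h1.le hwW).2
          have h3 := ExcCharts.basicOpen_cc_le hb hU a hJ k l₀ h2
          rwa [hl₀] at h3
  have hsub : D' ≤ F ⁻¹ᵁ D := hFD.ge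
  obtain ⟨ρ, hρsurj, hρalg, -, hρker⟩ := chart_map τ a₁ (Fin.castAdd m) (Fin.natAdd c)
    (Fin.append_injective_iff.2 ⟨Fin.natAdd_injective _ _, Fin.castAdd_injective _ _, fun i j h => by
      have := congrArg Fin.val h; simp at this; omega⟩) (Nat.add_comm m c) hex
    (by simpa [a₁] using KRegLib.isExact_of_isWeaklyRegular x hx) qh hqsurj (by simpa [a₁] using hker)
  let e := ExcCharts.eqv hb hU a hJ 0
  let e' := ExcCharts.eqv hb' hU' a'' hJ' 0
  let φ : RegBlow6.chartAlg a 0 →+* Γ(M', D') := (F.appLE D D' hsub).hom.comp e.toRingHom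
  let ψ : RegBlow6.chartAlg a 0 →+* Γ(M', D') := e'.toRingHom.comp ρ
  have halg : ∀ s, φ (algebraMap Γ(B, U) _ s) = ψ (algebraMap Γ(B, U) _ s) := fun s => by
    show F.appLE D D' hsub (e (algebraMap _ _ s)) = e' (ρ (algebraMap _ _ s))
    rw [hρalg]
    show F.appLE D D' hsub (ExcCharts.eqv hb hU a hJ 0 (algebraMap _ _ s)) =
      ExcCharts.eqv hb' hU' a'' hJ' 0 (algebraMap _ _ (qh s))
    rw [ExcCharts.eqv_algebraMap, ExcCharts.eqv_algebraMap]
    exact hval D' D hDb hsub hD'b s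
  have htn : φ (algebraMap Γ(B, U) _ τ) ∈ nonZeroDivisors Γ(M', D') := by
    show F.appLE D D' hsub (ExcCharts.eqv hb hU a hJ 0 (algebraMap _ _ τ)) ∈ _
    rw [ExcCharts.eqv_algebraMap, hval D' D hDb hsub hD'b τ]
    exact ExcCharts.nonZeroDivisor hb' hU' a'' hJ' 0
  have hφψ : φ = ψ := by
    refine (RingHom.cancel_right (PBlow.pres_surjective a 0)).1 ?_
    refine MvPolynomial.ringHom_ext (fun s => ?_) fun l => ?_
    · show φ ((PBlow.pres a 0) (C s)) = ψ ((PBlow.pres a 0) (C s))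
      rw [show (PBlow.pres a 0) (C s) = algebraMap _ _ s from (PBlow.pres a 0).commutes s]
      exact halg s
    · refine (mul_cancel_right_mem_nonZeroDivisors htn).1 ?_
      show φ (uu τ a₁ l) * φ (algebraMap _ _ τ) = ψ (uu τ a₁ l) * φ (algebraMap _ _ τ)
      rw [← map_mul, uu_mul, halg τ, halg, ← map_mul, uu_mul]
  have hsurj' : Function.Surjective (F.appLE D D' hsub).hom := fun w => by
    obtain ⟨w', rfl⟩ := e'.surjective w
    obtain ⟨v, rfl⟩ := hρsurj w'
    exact ⟨e v, RingHom.congr_fun hφψ v⟩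
  have hiso : IsIso (M'.presheaf.map (homOfLE hsub).op) := by
    rw [Subsingleton.elim (homOfLE hsub) (eqToHom hFD.symm)]
    infer_instance
  have hsurj : Function.Surjective (F.app D).hom := fun w => by
    obtain ⟨v, hv⟩ := hsurj' (M'.presheaf.map (homOfLE hsub).op w)
    exact ⟨v, (ConcreteCategory.bijective_of_isIso _).1 hv⟩
  have hinj : RingHom.ker (F.appLE D D' hsub).hom = RingHom.ker (F.app D).hom := by
    show RingHom.ker ((M'.presheaf.map (homOfLE hsub).op).hom.comp (F.app D).hom) = _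
    exact RingHom.ker_comp_of_injective _ (ConcreteCategory.bijective_of_isIso _).1
  let us := List.ofFn fun l => uu τ a₁ (Fin.castAdd m l)
  have hkφ : RingHom.ker φ = Ideal.ofList us := by
    rw [hφψ, show RingHom.ker ψ = RingHom.ker ρ from RingHom.ker_comp_of_injective _ e'.injective, hρker]
    exact congrArg Ideal.span (Set.ext fun v => by simp [us, List.mem_ofFn, Set.mem_range])
  have hkD : RingHom.ker (F.app D).hom = Ideal.ofList (us.map e) := by
    rw [← hinj, show Ideal.ofList (us.map e) = (Ideal.ofList us).map e.toRingHom from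
      (Ideal.map_ofList e.toRingHom _).symm, ← hkφ]
    refine Ideal.ext fun w => ?_
    obtain ⟨v, rfl⟩ := e.surjective w
    constructor
    · exact fun hy => Ideal.mem_map_of_mem e.toRingHom (RingHom.mem_ker.2 hy : v ∈ RingHom.ker φ)
    · intro hy
      obtain ⟨x', hx', hxx⟩ := (Ideal.mem_map_iff_of_surjective e.toRingHom e.surjective).1 hy
      rw [← e.injective hxx]
      exact hx'
  have hwr : IsWeaklyRegular (RegBlow6.chartAlg a 0) us := by
    refine isWeaklyRegular_coords_part τ a₁ (Nat.le_add_right c m) hex ?_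
    refine (congrArg (IsWeaklyRegular _) (congrArg List.ofFn (funext fun l => ?_))).mp hx
    show x l = Fin.append x y (Fin.castAdd m l)
    rw [Fin.append_left]
  refine ⟨D, hD, hz, isClosedImmersion_restrict_of_surjective F hD (hFD ▸ hD') hsurj, us.map e,
    by simp [us], isRegular_of_proper (isWeaklyRegular_map_equiv e hwr) ?_, hkD⟩
  rw [← hkD]
  exact ker_app_ne_top F hz

end Groth.Agent.H28.DefRel

end
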